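import Cfsg.Agent.Lib.Order175560.Tools
import Cfsg.Agent.Lib.SmallSimple.ExceptionalDegree
import Cfsg.Agent.Lib.BSW.FourCent

/-!
# The orders 17556, 7980, 58520 and 87780
-/

set_option autoImplicit false
set_option linter.style.haveILetI false
set_option linter.unusedSectionVars false

namespace Cfsg.Agent.Order175560

open Subgroup SmallSimple
open scoped Pointwise

variable {G : Type*} [Group G] [Finite G]

theorem normalizer_le_normalizer_centralizer (A : Subgroup G) :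
    normalizer (A : Set G) ≤ normalizer (centralizer (A : Set G) : Set G) := by
  intro g hg
  rw [Subgroup.mem_normalizer_iff]
  intro z
  constructor
  · intro hz a ha
    have ha' : g⁻¹ * a * g ∈ A := (Subgroup.mem_normalizer_iff.1 hg _).2 (by
      rw [show g * (g⁻¹ * a * g) * g⁻¹ = a by group]; exact ha)
    calc a * (g * z * g⁻¹) = g * ((g⁻¹ * a * g) * z) * g⁻¹ := by group
      _ = g * (z * (g⁻¹ * a * g)) * g⁻¹ := by rw [hz _ ha']
      _ = g * z * g⁻¹ * a := by group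
  · intro hz a ha
    have ha' := (Subgroup.mem_normalizer_iff.1 hg a).1 ha
    calc a * z = g⁻¹ * ((g * a * g⁻¹) * (g * z * g⁻¹)) * g := by group
      _ = g⁻¹ * ((g * z * g⁻¹) * (g * a * g⁻¹)) * g := by rw [hz _ ha']
      _ = z * a := by group

variable [IsSimpleGroup G]

/-- Local data at a prime of exponent one, with a finite check. -/
theorem local_check (hG : ¬ IsMulCommutative G) {p : ℕ} [hp : Fact p.Prime] (a b : ℕ)
    (hn : Nat.card G = p * (a * b)) (hm : ¬ p ∣ a * b) (R : ℕ → ℕ → Prop)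
    (h : ∀ i ∈ a.divisors, ∀ j ∈ b.divisors, (i * j) % p = 1 → 5 ≤ i * j →
      ∀ u ∈ (a / i).divisors, ∀ v ∈ (b / j).divisors, u * v ≠ a / i * (b / j) →
        a / i * (b / j) ∣ u * v * (p - 1) → R (a / i * (b / j)) (u * v))
    (P : Sylow p G) :
    ∃ w c, Nat.card (P : Subgroup G) = p ∧ nCard P = p * w ∧ cCard P = p * c ∧ R w c := by
  obtain ⟨hP, n, w, c, -, hw, hc, hnw, hmod, h5, hcw, hne, hwd⟩ := exists_local_data hG hn hm P
  refine ⟨w, c, hP, hw, hc, ?_⟩
  have hab : a * b ≠ 0 := fun h0 => hm (h0 ▸ dvd_zero p)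
  have ha : a ≠ 0 := (mul_ne_zero_iff.1 hab).1
  have hb : b ≠ 0 := (mul_ne_zero_iff.1 hab).2
  obtain ⟨i, j, hi, hj, rfl⟩ := (Nat.dvd_mul (k := n)).1 ⟨w, hnw.symm⟩
  have hi0 : 0 < i := Nat.pos_of_ne_zero fun h0 => by subst h0; exact ha (zero_dvd_iff.1 hi)
  have hj0 : 0 < j := Nat.pos_of_ne_zero fun h0 => by subst h0; exact hb (zero_dvd_iff.1 hj)
  have hw' : w = a / i * (b / j) := by
    apply Nat.eq_of_mul_eq_mul_left (Nat.mul_pos hi0 hj0)
    rw [hnw, mul_mul_mul_comm, Nat.mul_div_cancel' hi, Nat.mul_div_cancel' hj]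
  subst hw'
  obtain ⟨u, v, hu, hv, rfl⟩ := (Nat.dvd_mul (k := c)).1 hcw
  exact h i (Nat.mem_divisors.2 ⟨hi, ha⟩) j (Nat.mem_divisors.2 ⟨hj, hb⟩) hmod h5
    u (Nat.mem_divisors.2 ⟨hu, (Nat.div_pos (Nat.le_of_dvd (Nat.pos_of_ne_zero ha) hi) hi0).ne'⟩)
    v (Nat.mem_divisors.2 ⟨hv, (Nat.div_pos (Nat.le_of_dvd (Nat.pos_of_ne_zero hb) hj) hj0).ne'⟩)
    hne hwd

theorem dvd_of_dvd_mul_prime {p r c : ℕ} (hp : p.Prime) (hr : r.Prime) (hpr : r ≠ p)
    (h : r ∣ p * c) : r ∣ c :=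
  ((Nat.coprime_primes hr hp).2 hpr).dvd_of_dvd_mul_left h

/-- `r ∣ c_p` forces `p ∣ c_r`. -/
theorem dvd_symm {p r c c' : ℕ} [hp : Fact p.Prime] [hr : Fact r.Prime] (hpr : r ≠ p)
    {P : Sylow p G} (hP : Nat.card (P : Subgroup G) = p) {R : Sylow r G}
    (hR : Nat.card (R : Subgroup G) = r) (hc : cCard P = p * c) (hc' : cCard R = r * c')
    (h : r ∣ c) : p ∣ c' := by
  have h' := dvd_centralizer_symm P hP R hR (by rw [hc]; exact dvd_mul_of_dvd_right h p)
  rw [hc'] at h'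
  exact dvd_of_dvd_mul_prime hr.out hp.out (Ne.symm hpr) h'

/-- The orders 17556 and 58520: the square condition at 7. -/
theorem false_of_seven (hG : ¬ IsMulCommutative G) {m a b a' b' : ℕ}
    (hn : Nat.card G = 7 * m) (hm : ¬ 7 ∣ m) (hm7 : m = a * b)
    (hn' : Nat.card G = 11 * (a' * b')) (hm' : ¬ 11 ∣ a' * b')
    (h19 : ∀ R : Sylow 19 G, [Fact (Nat.Prime 19)] → Nat.card (R : Subgroup G) = 19 ∧
      ∃ c, cCard R = 19 * c ∧ ¬ 7 ∣ c ∧ ¬ 11 ∣ c)
    (h7 : ∀ i ∈ a.divisors, ∀ j ∈ b.divisors, (i * j) % 7 = 1 → 5 ≤ i * j →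
      ∀ u ∈ (a / i).divisors, ∀ v ∈ (b / j).divisors, u * v ≠ a / i * (b / j) →
        a / i * (b / j) ∣ u * v * (7 - 1) →
          19 ∣ u * v ∨ 11 ∣ u * v ∨ a / i * (b / j) = 2)
    (h11 : ∀ i ∈ a'.divisors, ∀ j ∈ b'.divisors, (i * j) % 11 = 1 → 5 ≤ i * j →
      ∀ u ∈ (a' / i).divisors, ∀ v ∈ (b' / j).divisors, u * v ≠ a' / i * (b' / j) →
        a' / i * (b' / j) ∣ u * v * (11 - 1) → (7 ∣ u * v → 19 ∣ u * v))
    (hcheck : ∀ d ∈ m.divisors, 2 ≤ d →
      ((((d : ℤ) - 1) % (7 : ℕ) = 0 ∧ ((d : ℤ) + 1).natAbs ∣ 7 * m →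
          Nat.sqrt (m * (d * (d + 1))) * Nat.sqrt (m * (d * (d + 1))) ≠ m * (d * (d + 1))) ∧
        ((-(d : ℤ) - 1) % (7 : ℕ) = 0 ∧ (-(d : ℤ) + 1).natAbs ∣ 7 * m →
          Nat.sqrt (m * (d * (d - 1))) * Nat.sqrt (m * (d * (d - 1))) ≠ m * (d * (d - 1))))) :
    False := by
  haveI : Fact (Nat.Prime 7) := ⟨by norm_num⟩
  haveI : Fact (Nat.Prime 11) := ⟨by norm_num⟩
  haveI : Fact (Nat.Prime 19) := ⟨by norm_num⟩
  obtain ⟨P⟩ : Nonempty (Sylow 7 G) := inferInstance
  obtain ⟨Q⟩ : Nonempty (Sylow 11 G) := inferInstance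
  obtain ⟨R⟩ : Nonempty (Sylow 19 G) := inferInstance
  obtain ⟨hR, cR, hcR, hR7, hR11⟩ := h19 R
  obtain ⟨w, c, hP, hw, hc, hdata⟩ := local_check hG a b (hm7 ▸ hn) (hm7 ▸ hm)
    (fun w c => 19 ∣ c ∨ 11 ∣ c ∨ w = 2) h7 P
  obtain ⟨w', c', hQ, -, hc', hdata'⟩ := local_check hG a' b' hn' hm'
    (fun _ c => 7 ∣ c → 19 ∣ c) h11 Q
  rcases hdata with h | h | rfl
  · exact hR7 (dvd_symm (by norm_num) hP hR hc hcR h)
  · exact hR11 (dvd_symm (by norm_num) hQ hR hc' hcR (hdata' (dvd_symm (by norm_num) hP hQ hc hc' h)))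
  · exact false_of_square_check hG hn hm le_rfl P hw hcheck

theorem false_of_7980 (hG : ¬ IsMulCommutative G) (hn : Nat.card G = 7980)
    (h19 : ∀ R : Sylow 19 G, [Fact (Nat.Prime 19)] → Nat.card (R : Subgroup G) = 19 ∧
      cCard R = 19 * 1) : False := by
  haveI : Fact (Nat.Prime 3) := ⟨Nat.prime_three⟩
  haveI : Fact (Nat.Prime 5) := ⟨by norm_num⟩
  haveI : Fact (Nat.Prime 19) := ⟨by norm_num⟩
  obtain ⟨R⟩ : Nonempty (Sylow 19 G) := inferInstance
  obtain ⟨hR, hcR⟩ := h19 R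
  have h5 : ∀ Q : Sylow 5 G, Nat.card (Q : Subgroup G) = 5 ∧ nCard Q = 5 * 6 ∧ cCard Q = 5 * 3 := by
    intro Q
    obtain ⟨w, c, hQ, hw, hc, hd⟩ := local_check hG 84 19 (by rw [hn]) (by norm_num)
      (fun w c => 19 ∣ c ∨ (w = 6 ∧ c = 3)) (by decide +kernel) Q
    rcases hd with h | ⟨rfl, rfl⟩
    · exact absurd (dvd_symm (by norm_num) hQ hR hc hcR h) (by norm_num)
    · exact ⟨hQ, hw, hc⟩
  obtain ⟨P⟩ : Nonempty (Sylow 3 G) := inferInstance
  obtain ⟨Q₀⟩ : Nonempty (Sylow 5 G) := inferInstance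
  obtain ⟨w, c, hP, hw, hc, hd⟩ := local_check hG 140 19 (by rw [hn]) (by norm_num)
    (fun w c => 5 ∣ c → 19 ∣ c ∨ (w = 140 ∧ c = 70) ∨ (w = 20 ∧ c = 10))
    (by decide +kernel) P
  obtain ⟨hQ₀, -, hcQ₀⟩ := h5 Q₀
  have h35 : 5 ∣ c := dvd_symm (by norm_num) hQ₀ hP hcQ₀ hc (dvd_refl 3)
  have key : ∀ r, (∀ n ∈ r.divisors, n % 5 = 1 → n = 1) → r ≠ 0 → c = 5 * r → 3 * w ∣ 30 := by
    intro r hr hr0 hcr
    obtain ⟨Q, -, hle⟩ := exists_normalizer_le (q := 5) P hP (by norm_num) (fun Q => (h5 Q).1)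
      (r := r) (by rw [hc, hcr]; ring) fun n hn => hr n (Nat.mem_divisors.2 ⟨hn, hr0⟩)
    have hd := Subgroup.card_dvd_of_le hle
    change nCard P ∣ nCard Q at hd
    rwa [hw, (h5 Q).2.1] at hd
  rcases hd h35 with h | ⟨rfl, rfl⟩ | ⟨rfl, rfl⟩
  · exact absurd (dvd_symm (by norm_num) hP hR hc hcR h) (by norm_num)
  · exact absurd (key 14 (by decide +kernel) (by norm_num) rfl) (by norm_num)
  · exact absurd (key 2 (by decide +kernel) (by norm_num) rfl) (by norm_num)

/-- A simple group with a Sylow 2-subgroup of order four whose odd primes all have odd centralisers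
has order 60. -/
theorem card_eq_sixty_of_odd_centralizers (hG : ¬ IsMulCommutative G) {m : ℕ}
    (hn : Nat.card G = 4 * m) (hm : ¬ 2 ∣ m)
    (hodd : ∀ (r : ℕ) [Fact r.Prime] (R : Sylow r G), r ∣ m →
      Nat.card (R : Subgroup G) = r ∧ ¬ 2 ∣ cCard R) :
    Nat.card G = 60 := by
  haveI : Fact (Nat.Prime 2) := ⟨Nat.prime_two⟩
  obtain ⟨S⟩ : Nonempty (Sylow 2 G) := inferInstance
  have hS : Nat.card (S : Subgroup G) = 2 ^ 2 := card_sylow_subgroup (by rw [hn]; norm_num) hm S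
  haveI hab : IsMulCommutative (S : Subgroup G) := IsPGroup.isMulCommutative_of_card_eq_prime_sq hS
  have hm1 : 1 < m := by
    by_contra hc
    apply hG
    have hm0 : m ≠ 0 := fun h => hm (h ▸ dvd_zero 2)
    have hsol : Group.IsSolvable G :=
      CharInt.isSolvable_of_card_eq Nat.prime_two Nat.prime_three (a := 2) (b := 0)
        (by rw [hn, show m = 1 by omega]; norm_num)
    exact isMulCommutative_iff.2 fun a b => (IsSimpleGroup.comm_iff_isSolvable.2 hsol) a b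
  -- `S` is not cyclic
  have hsq : ∀ a ∈ (S : Subgroup G), a * a = 1 := by
    intro a ha
    have hd : orderOf a ∣ 2 ^ 2 := hS ▸ Subgroup.orderOf_dvd_natCard _ ha
    by_contra h
    have h4 : orderOf a = 2 ^ 2 := by
      obtain ⟨k, hk, hk'⟩ := (Nat.dvd_prime_pow Nat.prime_two).1 hd
      interval_cases k
      · exact absurd (by rw [orderOf_eq_one_iff.1 hk', one_mul]) h
      · exact absurd (by rw [← pow_two, show (2 : ℕ) = orderOf a by rw [hk']; norm_num]; exact pow_orderOf_eq_one a) h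
      · exact hk'
    haveI : IsCyclic (S : Subgroup G) := isCyclic_of_orderOf_eq_card (⟨a, ha⟩ : (S : Subgroup G))
      (by rw [Subgroup.orderOf_mk, h4, hS])
    have hmin : (Nat.card G).minFac = 2 := (Nat.minFac_eq_two_iff _).2 (hn ▸ dvd_mul_of_dvd_left (by norm_num) m)
    exact no_complement_of_lt S (by rw [hS]; norm_num)
      (by rw [hS, hn]; exact lt_mul_of_one_lt_right (by norm_num) hm1) _ (MonoidHom.normal_ker _)
      ((inferInstance : IsCyclic (S : Subgroup G)).isComplement' hmin)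
  obtain ⟨⟨t, htS⟩, hot⟩ := exists_prime_orderOf_dvd_card' (G := (S : Subgroup G)) 2 (by rw [hS]; norm_num)
  rw [Subgroup.orderOf_mk] at hot
  set C := Subgroup.centralizer ({t} : Set G)
  have hSC : (S : Subgroup G) ≤ C := fun a ha => Subgroup.mem_centralizer_singleton_iff.2
    (congrArg Subtype.val (mul_comm' (⟨a, ha⟩ : (S : Subgroup G)) ⟨t, htS⟩))
  obtain ⟨k, hk⟩ : 4 ∣ Nat.card C := by
    have := Subgroup.card_dvd_of_le hSC
    rwa [hS] at this
  have hk1 : k = 1 := by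
    by_contra hne
    obtain ⟨r, hr, hrk⟩ := Nat.exists_prime_and_dvd hne
    haveI : Fact r.Prime := ⟨hr⟩
    have hkm : k ∣ m := by
      have := Subgroup.card_subgroup_dvd_card C
      rw [hk, hn] at this
      exact Nat.dvd_of_mul_dvd_mul_left (by norm_num) this
    obtain ⟨⟨x, hx⟩, hox⟩ := exists_prime_orderOf_dvd_card' (G := C) r (hk ▸ dvd_mul_of_dvd_right hrk 4)
    rw [Subgroup.orderOf_mk] at hox
    obtain ⟨R, hR⟩ := (IsPGroup.of_card (n := 1) (by rw [Nat.card_zpowers, hox, pow_one]) :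
      IsPGroup r (Subgroup.zpowers x)).exists_le_sylow
    obtain ⟨hRc, hRodd⟩ := hodd r R (hrk.trans hkm)
    have hzR : Subgroup.zpowers x = (R : Subgroup G) := zpowers_eq_of_card hRc
      (hR (Subgroup.mem_zpowers x))
      (fun h => by rw [h, orderOf_one] at hox; exact hr.one_lt.ne hox)
    apply hRodd
    rw [← hot]
    refine Subgroup.orderOf_dvd_natCard _ fun a ha => ?_
    rw [← hzR] at ha
    obtain ⟨j, rfl⟩ := Subgroup.mem_zpowers_iff.1 ha
    exact (Commute.zpow_left (show Commute x t from Subgroup.mem_centralizer_singleton_iff.1 hx) j).eq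
  have hC4 : Nat.card C = 4 := by rw [hk, hk1]
  have hCS : (S : Subgroup G) = C := Subgroup.eq_of_le_of_card_ge hSC (by rw [hC4, hS]; norm_num)
  let F : BSW.FourCent G :=
    { x := t, hx := hot, card_four := hC4, sq := fun a ha => hsq a (by rw [hCS]; exact ha) }
  obtain ⟨e⟩ := F.iso_alternating (not_hasNormalPComplement hG (p := 2)
    (hn ▸ dvd_mul_of_dvd_left (by norm_num) m)) fun E hE _ => by
      rcases hE.eq_bot_or_eq_top with h | h
      · subst h; rw [Subgroup.card_bot]; norm_num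
      · subst h; rw [Subgroup.card_top, hn]; omega
  rw [Nat.card_congr e.toEquiv, Nat.card_eq_fintype_card]
  decide +kernel

theorem false_of_87780 (hG : ¬ IsMulCommutative G) (hn : Nat.card G = 87780)
    (h19 : ∀ R : Sylow 19 G, [Fact (Nat.Prime 19)] → Nat.card (R : Subgroup G) = 19 ∧
      ((nCard R = 19 * 22 ∧ cCard R = 19 * 11) ∨ (cCard R = 19 * 1))) : False := by
  haveI : Fact (Nat.Prime 2) := ⟨Nat.prime_two⟩
  haveI : Fact (Nat.Prime 3) := ⟨Nat.prime_three⟩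
  haveI : Fact (Nat.Prime 5) := ⟨by norm_num⟩
  haveI : Fact (Nat.Prime 7) := ⟨by norm_num⟩
  haveI : Fact (Nat.Prime 11) := ⟨by norm_num⟩
  haveI : Fact (Nat.Prime 19) := ⟨by norm_num⟩
  obtain ⟨S19⟩ : Nonempty (Sylow 19 G) := inferInstance
  obtain ⟨P3⟩ : Nonempty (Sylow 3 G) := inferInstance
  obtain ⟨P5⟩ : Nonempty (Sylow 5 G) := inferInstance
  obtain ⟨P7⟩ : Nonempty (Sylow 7 G) := inferInstance
  obtain ⟨P11⟩ : Nonempty (Sylow 11 G) := inferInstance
  obtain ⟨h19c, h19d⟩ := h19 S19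
  obtain ⟨c19, hc19, hc19'⟩ : ∃ c, cCard S19 = 19 * c ∧ (c = 1 ∨ c = 11) := by
    rcases h19d with ⟨-, h⟩ | h
    · exact ⟨11, h, Or.inr rfl⟩
    · exact ⟨1, h, Or.inl rfl⟩
  have hc19dvd : ∀ r : ℕ, r.Prime → r ≠ 11 → ¬ r ∣ c19 := fun r hr h11 h => by
    rcases hc19' with rfl | rfl
    · exact hr.not_dvd_one h
    · exact h11 ((Nat.prime_dvd_prime_iff_eq hr (by norm_num)).1 h)
  -- the prime 11
  have hall11 : ∀ Q : Sylow 11 G, ∃ w c, Nat.card (Q : Subgroup G) = 11 ∧ nCard Q = 11 * w ∧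
      cCard Q = 11 * c ∧ (7 ∣ c → 19 ∣ c ∧ ¬ 2 ∣ w) ∧
      (¬ 7 ∣ c → ¬ 3 ∣ c → ¬ 5 ∣ c → ¬ 2 ∣ c) := fun Q =>
    local_check hG 84 95 (by rw [hn]) (by norm_num)
      (fun w c => (7 ∣ c → 19 ∣ c ∧ ¬ 2 ∣ w) ∧ (¬ 7 ∣ c → ¬ 3 ∣ c → ¬ 5 ∣ c → ¬ 2 ∣ c))
      (by decide +kernel) Q
  obtain ⟨w11, c11, h11c, hw11, hc11, h11d, h11e⟩ := hall11 P11
  have h7_11 : ¬ 7 ∣ c11 := by
    intro h
    obtain ⟨h19', hodd⟩ := h11d h
    have h11_19 : 11 ∣ c19 := dvd_symm (by norm_num) h11c h19c hc11 hc19 h19'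
    rcases h19d with ⟨hN, hC⟩ | hC
    · obtain ⟨Q, -, hle⟩ := exists_normalizer_le (q := 11) S19 h19c (by norm_num)
        (fun Q => (hall11 Q).choose_spec.choose_spec.1) (r := 1) hC
        (fun n hn _ => Nat.dvd_one.1 hn)
      have hd := Subgroup.card_dvd_of_le hle
      change nCard S19 ∣ nCard Q at hd
      rw [hN] at hd
      have hPQ : nCard Q = 11 * w11 := by
        rw [← hw11]
        refine Nat.eq_of_mul_eq_mul_left (Nat.card_pos (α := Sylow 11 G))
          ((card_sylow_mul_card_normalizer Q).trans (card_sylow_mul_card_normalizer P11).symm)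
      rw [hPQ] at hd
      exact hodd ((show Nat.Coprime 2 11 by norm_num).dvd_of_dvd_mul_left
        ((dvd_mul_of_dvd_right (by norm_num) 19).trans hd))
    · rw [hC] at hc19
      have : c19 = 1 := by omega
      rw [this] at h11_19
      norm_num at h11_19
  -- the prime 7
  obtain ⟨w7, c7, h7c, -, hc7, h7d⟩ := local_check hG 132 95 (by rw [hn]) (by norm_num)
    (fun _ c => 19 ∣ c ∨ 11 ∣ c ∨ 5 ∣ c ∨ c = 1) (by decide +kernel) P7
  -- the prime 5
  have hall5 : ∀ Q : Sylow 5 G, ∃ w c, Nat.card (Q : Subgroup G) = 5 ∧ nCard Q = 5 * w ∧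
      cCard Q = 5 * c ∧ (7 ∣ c → 19 ∣ c) ∧ (19 ∣ c ∨ (w = 66 ∧ c = 33) ∨ (w = 6 ∧ c = 3)) := fun Q =>
    local_check hG 132 133 (by rw [hn]) (by norm_num)
      (fun w c => (7 ∣ c → 19 ∣ c) ∧ (19 ∣ c ∨ (w = 66 ∧ c = 33) ∨ (w = 6 ∧ c = 3)))
      (by decide +kernel) Q
  have h5d : ∀ Q : Sylow 5 G, Nat.card (Q : Subgroup G) = 5 ∧
      ((nCard Q = 5 * 66 ∧ cCard Q = 5 * 33) ∨ (nCard Q = 5 * 6 ∧ cCard Q = 5 * 3)) := by
    intro Q
    obtain ⟨w, c, hQ, hw, hc, -, h | ⟨rfl, rfl⟩ | ⟨rfl, rfl⟩⟩ := hall5 Q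
    · exact absurd (dvd_symm (by norm_num) hQ h19c hc hc19 h) (hc19dvd 5 (by norm_num) (by norm_num))
    · exact ⟨hQ, Or.inl ⟨hw, hc⟩⟩
    · exact ⟨hQ, Or.inr ⟨hw, hc⟩⟩
  obtain ⟨h5c, h5e⟩ := h5d P5
  obtain ⟨w5, c5, hw5, hc5, h5v⟩ : ∃ w c, nCard P5 = 5 * w ∧ cCard P5 = 5 * c ∧
      ((w = 66 ∧ c = 33) ∨ (w = 6 ∧ c = 3)) := by
    rcases h5e with ⟨a, b⟩ | ⟨a, b⟩
    · exact ⟨_, _, a, b, Or.inl ⟨rfl, rfl⟩⟩
    · exact ⟨_, _, a, b, Or.inr ⟨rfl, rfl⟩⟩
  have h3_5 : 3 ∣ c5 := by rcases h5v with ⟨-, rfl⟩ | ⟨-, rfl⟩ <;> norm_num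
  have h7odd : c7 = 1 := by
    rcases h7d with h | h | h | h
    · exact absurd (dvd_symm (by norm_num) h7c h19c hc7 hc19 h) (hc19dvd 7 (by norm_num) (by norm_num))
    · exact absurd (dvd_symm (by norm_num) h7c h11c hc7 hc11 h) h7_11
    · have := dvd_symm (by norm_num) h7c h5c hc7 hc5 h
      rcases h5v with ⟨-, rfl⟩ | ⟨-, rfl⟩ <;> norm_num at this
    · exact h
  -- the prime 3
  have hall3 : ∀ R : Sylow 3 G, Nat.card (R : Subgroup G) = 3 ∧
      ((nCard R = 3 * 220 ∧ cCard R = 3 * 110) ∨ (nCard R = 3 * 10 ∧ cCard R = 3 * 5)) := by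
    intro R
    obtain ⟨w, c, hR, hw, hc, hd⟩ := local_check hG 220 133 (by rw [hn]) (by norm_num)
      (fun w c => 5 ∣ c → 7 ∣ c ∨ 19 ∣ c ∨ (w = 220 ∧ c = 110) ∨ (w = 10 ∧ c = 5))
      (by decide +kernel) R
    refine ⟨hR, ?_⟩
    rcases hd (dvd_symm (by norm_num) h5c hR hc5 hc h3_5) with h | h | ⟨rfl, rfl⟩ | ⟨rfl, rfl⟩
    · have := dvd_symm (by norm_num) hR h7c hc hc7 h
      rw [h7odd] at this; norm_num at this
    · exact absurd (dvd_symm (by norm_num) hR h19c hc hc19 h) (hc19dvd 3 (by norm_num) (by norm_num))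
    · exact Or.inl ⟨hw, hc⟩
    · exact Or.inr ⟨hw, hc⟩
  have h5small : c5 = 3 ∧ w5 = 6 := by
    rcases h5v with ⟨rfl, rfl⟩ | ⟨rfl, rfl⟩
    swap
    · exact ⟨rfl, rfl⟩
    exfalso
    obtain ⟨R, hRC, hle⟩ := exists_normalizer_le (q := 3) P5 h5c (by norm_num) (fun R => (hall3 R).1)
      (r := 11) (by rw [hc5]) (fun n hn h1 => by
        rcases (Nat.dvd_prime (by norm_num)).1 hn with rfl | rfl
        · rfl
        · norm_num at h1)
    set C5 := centralizer ((P5 : Subgroup G) : Set G)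
    set H := centralizer ((R : Subgroup G) : Set G)
    have hC5card : Nat.card C5 = 165 := hc5
    have hC5H : C5 ≤ H := le_centralizer_of_coprime R (hall3 R).1
      ((SmallSimple.centralizer_le_normalizer _).trans hle) (by rw [hC5card]; norm_num)
    have h165 : 165 ∣ Nat.card H := hC5card ▸ Subgroup.card_dvd_of_le hC5H
    have hH : nCard R = 3 * 220 ∧ Nat.card H = 165 * 2 := by
      rcases (hall3 R).2 with ⟨a, b⟩ | ⟨-, b⟩
      · exact ⟨a, b⟩
      · exfalso
        change 165 ∣ cCard R at h165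
        rw [b] at h165
        norm_num at h165
    have hl : 165 ∣ Nat.card (normalizer ((P5 : Subgroup G) : Set G) ⊓ H : Subgroup G) :=
      hC5card ▸ Subgroup.card_dvd_of_le (le_inf (SmallSimple.centralizer_le_normalizer _) hC5H)
    have hle' := (normalizer_le_normalizer_centralizer (R : Subgroup G)).trans
      (normalizer_le_of_unique P5 ((le_centralizer_self h5c).trans hC5H) hl hH.2 (fun n hn h1 => by
        rcases (Nat.dvd_prime Nat.prime_two).1 hn with rfl | rfl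
        · rfl
        · norm_num at h1))
    have hd := Subgroup.card_dvd_of_le hle'
    change nCard R ∣ nCard P5 at hd
    rw [hH.1, hw5] at hd
    norm_num at hd
  obtain ⟨rfl, rfl⟩ := h5small
  have h3c := (hall3 P3).1
  have h3small : cCard P3 = 3 * 5 := by
    rcases (hall3 P3).2 with ⟨hN3, hC3⟩ | ⟨-, h⟩
    swap
    · exact h
    exfalso
    set H := centralizer ((P3 : Subgroup G) : Set G)
    obtain ⟨R, hRC, hle⟩ := exists_normalizer_le (q := 11) P3 h3c (by norm_num)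
      (fun Q => (hall11 Q).choose_spec.choose_spec.1) (r := 10) (by rw [hC3]) (fun n hn h1 => by
        have : n ∈ (10 : ℕ).divisors := Nat.mem_divisors.2 ⟨hn, by norm_num⟩
        have hdec : ∀ n ∈ (10 : ℕ).divisors, n % 11 = 1 → n = 1 := by decide +kernel
        exact hdec n this h1)
    obtain ⟨⟨y, hy⟩, hoy⟩ := exists_prime_orderOf_dvd_card' (G := H) 5 (by
      rw [show Nat.card H = 3 * 110 from hC3]; norm_num)
    rw [Subgroup.orderOf_mk] at hoy
    obtain ⟨Q, hQ⟩ := (IsPGroup.of_card (n := 1) (by rw [Nat.card_zpowers, hoy, pow_one]) :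
      IsPGroup 5 (zpowers y)).exists_le_sylow
    obtain ⟨hQc, hQd⟩ := h5d Q
    have hyQ : zpowers y = (Q : Subgroup G) := zpowers_eq_of_card hQc (hQ (mem_zpowers y))
      (fun h => by rw [h, orderOf_one] at hoy; norm_num at hoy)
    have hNQ : nCard Q = 30 ∧ cCard Q = 15 := by
      rcases hQd with ⟨-, b⟩ | ⟨a, b⟩
      · rw [cCard_eq Q P5, hc5] at b; norm_num at b
      · exact ⟨a, b⟩
    have hQH : (Q : Subgroup G) ≤ H := hyQ ▸ zpowers_le.2 hy
    -- the normaliser of `Q` lies in `H`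
    set M := normalizer ((Q : Subgroup G) : Set G) ⊓ H
    have hM15 : 15 ∣ Nat.card M := by
      rw [← hNQ.2]
      refine Subgroup.card_dvd_of_le (le_inf (SmallSimple.centralizer_le_normalizer _) ?_)
      have h1 : centralizer ((Q : Subgroup G) : Set G) ≤ normalizer ((P3 : Subgroup G) : Set G) := by
        obtain ⟨P', hP'C, hle'⟩ := exists_normalizer_le (q := 3) Q hQc (by norm_num)
          (fun R => (hall3 R).1) (r := 1) (by rw [show cCard Q = 15 from hNQ.2]) (fun n hn _ => Nat.dvd_one.1 hn)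
        have : P' = P3 := by
          have hP3 : (P3 : Subgroup G) ≤ centralizer ((Q : Subgroup G) : Set G) := fun a ha b hb =>
            (hQH hb a ha).symm
          have hC15 : Nat.card (centralizer ((Q : Subgroup G) : Set G)) = 15 := hNQ.2
          by_contra hne
          obtain ⟨a, ha, ha1⟩ := (P3 : Subgroup G).ne_bot_iff_exists_ne_one.1
            (fun h => by rw [h, Subgroup.card_bot] at h3c; norm_num at h3c) |> fun ⟨a, h⟩ =>
              (⟨a.1, a.2, fun e => h (Subtype.ext e)⟩ : ∃ a, a ∈ (P3 : Subgroup G) ∧ a ≠ 1)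
          have hfix : a • P' = P' := SmallSimple.smul_sylow_eq_iff.2
            (hle' (SmallSimple.centralizer_le_normalizer _ (hP3 ha)))
          exact ha1 (eq_one_of_smul_eq h3c hne ha hfix)
        exact this ▸ (SmallSimple.centralizer_le_normalizer _).trans hle'
      exact le_centralizer_of_coprime P3 h3c h1 (by
        rw [show Nat.card (centralizer ((Q : Subgroup G) : Set G)) = 15 from hNQ.2]; norm_num)
    have hNH : normalizer ((Q : Subgroup G) : Set G) ≤ H := by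
      have h30 : Nat.card M ∣ 30 := hNQ.1 ▸ Subgroup.card_dvd_of_le inf_le_left
      have hmul := Subgroup.card_mul_index ((normalizer ((Q : Subgroup G) : Set G)).subgroupOf H)
      rw [← inf_subgroupOf_right, Nat.card_congr (Subgroup.subgroupOfEquivOfLe inf_le_right).toEquiv,
        show Nat.card H = 330 from hC3] at hmul
      have hmod := relIndex_normalizer_modEq Q hQH
      rw [Subgroup.relIndex, ← inf_subgroupOf_right] at hmod
      change Nat.card M * _ = 330 at hmul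
      have hM : Nat.card M = 15 ∨ Nat.card M = 30 := by
        have hdec : ∀ d ∈ (30 : ℕ).divisors, 15 ∣ d → d = 15 ∨ d = 30 := by decide +kernel
        exact hdec _ (Nat.mem_divisors.2 ⟨h30, by norm_num⟩) hM15
      rcases hM with h | h
      · exfalso
        rw [h] at hmul
        omega
      · exact inf_eq_left.1 (Subgroup.eq_of_le_of_card_ge inf_le_left
          (le_of_eq (hNQ.1.trans h.symm)))
    obtain ⟨u, huN, hu2, -, huC⟩ := exists_involution_not_mem Q (by rw [hNQ.1]; norm_num)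
      (by rw [hNQ.2]; norm_num)
    have hHR : H ≤ normalizer ((R : Subgroup G) : Set G) :=
      (SmallSimple.centralizer_le_normalizer _).trans hle
    have hRc : Nat.card (R : Subgroup G) = 11 := (hall11 R).choose_spec.choose_spec.1
    haveI : IsCyclic (R : Subgroup G) := isCyclic_of_prime_card hRc
    have hyC : y ∈ centralizer ((R : Subgroup G) : Set G) :=
      mem_centralizer_of_inverted (hHR hy) (hHR (hNH huN))
        (inverts_of_not_mem hQc huN hu2 huC (hyQ ▸ mem_zpowers y)) (by rw [hoy]; decide)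
    obtain ⟨w', c', hRc', -, hcR, -⟩ := hall11 R
    have h55 : 5 ∣ c' := dvd_of_dvd_mul_prime (by norm_num : Nat.Prime 11) (by norm_num) (by norm_num)
      (hcR ▸ hoy ▸ Subgroup.orderOf_dvd_natCard _ hyC)
    have := dvd_symm (by norm_num) hRc' h5c hcR hc5 h55
    norm_num at this
  have h11odd : ¬ 2 ∣ c11 := by
    refine h11e h7_11 (fun h => ?_) fun h => ?_
    · have := dvd_symm (by norm_num) h11c h3c hc11 h3small h
      norm_num at this
    · have := dvd_symm (by norm_num) h11c h5c hc11 hc5 h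
      norm_num at this
  have h60 := card_eq_sixty_of_odd_centralizers hG (m := 21945) (by rw [hn]) (by norm_num)
    (fun r _ R hr => by
      have hr' : r ∈ ({3, 5, 7, 11, 19} : Finset ℕ) := by
        have hp : r.Prime := Fact.out
        rw [show (21945 : ℕ) = 3 * 5 * 7 * 11 * 19 by norm_num] at hr
        simp only [hp.dvd_mul, Nat.prime_dvd_prime_iff_eq hp (by norm_num : Nat.Prime 3),
          Nat.prime_dvd_prime_iff_eq hp (by norm_num : Nat.Prime 5),
          Nat.prime_dvd_prime_iff_eq hp (by norm_num : Nat.Prime 7),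
          Nat.prime_dvd_prime_iff_eq hp (by norm_num : Nat.Prime 11),
          Nat.prime_dvd_prime_iff_eq hp (by norm_num : Nat.Prime 19)] at hr
        simp only [Finset.mem_insert, Finset.mem_singleton]
        omega
      simp only [Finset.mem_insert, Finset.mem_singleton] at hr'
      rcases hr' with rfl | rfl | rfl | rfl | rfl
      · refine ⟨(hall3 R).1, ?_⟩
        rw [cCard_eq R P3, h3small]; norm_num
      · refine ⟨(h5d R).1, ?_⟩
        rw [cCard_eq R P5, hc5]; norm_num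
      · refine ⟨by rw [R.card_eq_multiplicity, ← P7.card_eq_multiplicity, h7c], ?_⟩
        rw [cCard_eq R P7, hc7, h7odd]; norm_num
      · refine ⟨by rw [R.card_eq_multiplicity, ← P11.card_eq_multiplicity, h11c], ?_⟩
        rw [cCard_eq R P11, hc11]
        exact fun h => h11odd ((show Nat.Coprime 2 11 by norm_num).dvd_of_dvd_mul_left h)
      · refine ⟨(h19 R).1, ?_⟩
        rw [cCard_eq R S19, hc19]
        rcases hc19' with rfl | rfl <;> norm_num)
  omega

end Cfsg.Agent.Order175560
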