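import Cfsg.Agent.Lib.Order175560.Tools

/-!
# A central involution of `N(P)` with too many fixed Sylow subgroups

`|C(P)| = 38` and 210 Sylow subgroups: the involution fixes at least 58 of them, but at most 39.
-/

set_option autoImplicit false
set_option linter.style.haveILetI false
set_option linter.unusedSectionVars false

namespace Cfsg.Agent.Order175560

open Subgroup SmallSimple
open scoped Pointwise

variable {G : Type*} [Group G] [Finite G] [IsSimpleGroup G]

theorem three_le_fixed {X : Type*} [Fintype X] [DecidableEq X] (hX : Fintype.card X = 11)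
    (σ : Equiv.Perm X) (h2 : σ * σ = 1) (hσ : σ ≠ 1) (hs : Equiv.Perm.sign σ = 1) :
    3 ≤ σ.supportᶜ.card := by
  haveI : Fact (Nat.Prime 2) := ⟨Nat.prime_two⟩
  have ho : orderOf σ = 2 := orderOf_eq_prime (by rw [pow_two]; exact h2) hσ
  obtain ⟨j, hj⟩ := Equiv.Perm.cycleType_prime_order (σ := σ) (by rw [ho]; exact Nat.prime_two)
  rw [ho] at hj
  have hsum := σ.sum_cycleType
  rw [hj, Multiset.sum_replicate, smul_eq_mul] at hsum
  rw [Equiv.Perm.sign_of_cycleType, hj, Multiset.sum_replicate, Multiset.card_replicate,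
    smul_eq_mul] at hs
  have hle := σ.support.card_le_univ
  rw [hX] at hle
  rw [Finset.card_compl, hX]
  by_contra hlt
  obtain rfl : j = 4 := by omega
  exact absurd hs (by decide)

theorem false_of_two_hundred_ten (hG : ¬ IsMulCommutative G) [Fact (Nat.Prime 19)]
    (hGc : Nat.card G = 19 * 840) (P : Sylow 19 G) (hP : Nat.card (P : Subgroup G) = 19)
    (hn : Nat.card (Sylow 19 G) = 210) (hN : nCard P = 19 * 4) (hC : cCard P = 19 * 2) : False := by
  classical
  haveI : Fact (Nat.Prime 2) := ⟨Nat.prime_two⟩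
  haveI := Fintype.ofFinite G
  haveI : Fintype (Sylow 19 G) := Fintype.ofFinite _
  set C := centralizer ((P : Subgroup G) : Set G) with hCdef
  set N := normalizer ((P : Subgroup G) : Set G) with hNdef
  have hCN : C ≤ N := SmallSimple.centralizer_le_normalizer _
  have hPC : (P : Subgroup G) ≤ C := le_centralizer_self hP
  have hcardC : Nat.card C = 38 := hC
  have hcardN : Nat.card N = 76 := hN
  have h19 : 19 ∣ Nat.card G := hGc ▸ dvd_mul_right 19 840
  obtain ⟨⟨t, htC⟩, hot⟩ := exists_prime_orderOf_dvd_card' (G := C) 2 (by rw [hcardC]; norm_num)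
  rw [Subgroup.orderOf_mk] at hot
  have ht1 : t ≠ 1 := fun h => by rw [h, orderOf_one] at hot; norm_num at hot
  have ht2 : t * t = 1 := by rw [← pow_two, ← hot, pow_orderOf_eq_one]
  have hPidx : ((P : Subgroup G).subgroupOf C).index = 2 := by
    have h := Subgroup.card_mul_index ((P : Subgroup G).subgroupOf C)
    rw [Nat.card_congr (Subgroup.subgroupOfEquivOfLe hPC).toEquiv, hP, hcardC] at h
    omega
  have hPodd : ∀ a ∈ (P : Subgroup G), a * a = 1 → a = 1 := fun a ha h => by
    refine orderOf_eq_one_iff.1 (Nat.eq_one_of_dvd_coprimes (by norm_num : Nat.Coprime 2 19)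
      (orderOf_dvd_of_pow_eq_one (by rw [pow_two]; exact h)) ?_)
    have := Subgroup.orderOf_dvd_natCard _ ha
    rwa [hP] at this
  have huniq : ∀ x ∈ C, x * x = 1 → x ≠ 1 → x = t := by
    intro x hx hx2 hx1
    have hxP : x ∉ (P : Subgroup G) := fun h => hx1 (hPodd x h hx2)
    have htP : t ∉ (P : Subgroup G) := fun h => ht1 (hPodd t h ht2)
    have ha : x * t ∈ (P : Subgroup G) := by
      have h := Subgroup.mul_mem_iff_of_index_two hPidx (a := ⟨x, hx⟩) (b := ⟨t, htC⟩)
      simp only [Subgroup.mem_subgroupOf] at h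
      exact h.2 ⟨fun h' => absurd h' hxP, fun h' => absurd h' htP⟩
    have hat : x * t * t = t * (x * t) := htC (x * t) ha
    rw [mul_assoc x t t, ht2, mul_one] at hat
    have h1 : x * t * (x * t) = 1 := by
      calc x * t * (x * t) = x * (t * (x * t)) := by group
        _ = x * x := by rw [← hat]
        _ = 1 := hx2
    have h2 := hPodd _ ha h1
    rw [eq_inv_of_mul_eq_one_left h2, inv_eq_of_mul_eq_one_right ht2]
  -- `t` is central in `N`
  have hNt : ∀ g ∈ N, g * t * g⁻¹ = t := by
    intro g hg
    refine huniq _ (fun a ha => ?_) ?_ (fun h => ht1 (conj_eq_one_iff.1 h))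
    · have ha' : g⁻¹ * a * g ∈ (P : Subgroup G) :=
        (Subgroup.mem_normalizer_iff.1 hg _).2 (by
          rw [show g * (g⁻¹ * a * g) * g⁻¹ = a by group]; exact ha)
      calc a * (g * t * g⁻¹) = g * ((g⁻¹ * a * g) * t) * g⁻¹ := by group
        _ = g * (t * (g⁻¹ * a * g)) * g⁻¹ := by rw [htC _ ha']
        _ = g * t * g⁻¹ * a := by group
    · rw [show g * t * g⁻¹ * (g * t * g⁻¹) = g * (t * t) * g⁻¹ by group, ht2]; group
  set Ct := centralizer ({t} : Set G) with hCtdef
  have hNle : N ≤ Ct := fun g hg =>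
    Subgroup.mem_centralizer_singleton_iff.2 (mul_inv_eq_iff_eq_mul.1 (hNt g hg))
  have hCt : Nat.card Ct = 76 := by
    have hi := relIndex_normalizer_modEq P (le_trans (le_trans hPC hCN) hNle)
    have h1 := Subgroup.relIndex_mul_index hNle
    rw [show N.index = 210 from ((Sylow.card_eq_index_normalizer P).symm.trans hn)] at h1
    have hmem : N.relIndex Ct ∈ (210 : ℕ).divisors :=
      Nat.mem_divisors.2 ⟨Dvd.intro _ h1, by norm_num⟩
    have hcases : ∀ d ∈ (210 : ℕ).divisors, d % 19 = 1 → d = 1 ∨ d = 210 := by decide +kernel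
    rcases hcases _ hmem hi with h | h
    · rw [← hcardN]
      exact congrArg (fun H : Subgroup G => Nat.card H)
        (le_antisymm (Subgroup.relIndex_eq_one.1 h) hNle)
    · exfalso
      rw [h] at h1
      have : Ct.index = 1 := by omega
      exact centralizer_singleton_ne_top hG ht1 (Subgroup.index_eq_one.1 this)
  -- the lower bound from the orbits
  set Fix : Finset (Sylow 19 G) := Finset.univ.filter fun Q => t • Q = Q with hFix
  have htP' : t • P = P := SmallSimple.smul_sylow_eq_iff.2 (hCN htC)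
  obtain ⟨q, φ, hφ, hq, hiff, horb⟩ := exists_centralizer_hom hG (by decide) h19 P hP (k := 11)
    (by rw [hn]) (zpowers t) (zpowers_le.2 htC) (by rw [Nat.card_zpowers, hot]; norm_num)
  let σ : Equiv.Perm (Fin 11) := (φ ⟨t, mem_zpowers t⟩ : Equiv.Perm (Fin 11))
  have hσ3 : 3 ≤ σ.supportᶜ.card := by
    refine three_le_fixed (Fintype.card_fin 11) σ ?_ ?_
      (Equiv.Perm.mem_alternatingGroup.1 (φ ⟨t, mem_zpowers t⟩).2)
    · rw [← Subgroup.coe_mul, ← map_mul]
      rw [show (⟨t, mem_zpowers t⟩ : zpowers t) * ⟨t, mem_zpowers t⟩ = 1 from Subtype.ext ht2, map_one]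
      rfl
    · intro h
      exact ht1 (congrArg Subtype.val (hφ ((Subtype.ext h).trans φ.map_one.symm)))
  choose rep hrep using hq
  have hlow : 3 * 19 + 1 ≤ Fix.card := by
    haveI : Fintype (P : Subgroup G) := Fintype.ofFinite _
    let F : {i // i ∈ σ.supportᶜ} × ↥(P : Subgroup G) → Sylow 19 G :=
      fun ia => (ia.2 : G) • (rep ia.1.1).1
    have hne : ∀ ia, F ia ≠ P := fun ia h => (rep ia.1.1).2 (smul_left_cancel (ia.2 : G)
      (h.trans (SmallSimple.smul_sylow_eq_iff.2 (Subgroup.le_normalizer ia.2.2)).symm))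
    have hinj : Function.Injective F := by
      rintro ⟨⟨i, hi⟩, a⟩ ⟨⟨j, hj⟩, b⟩ h
      have h' : (a : G) • (rep i).1 = (b : G) • (rep j).1 := h
      have he : ((b : G)⁻¹ * a) • (rep i).1 = (rep j).1 := by rw [mul_smul, h', inv_smul_smul]
      have hij : i = j := by
        rw [← hrep i, ← hrep j]
        exact (horb _ _).2 ⟨_, mul_mem (inv_mem b.2) a.2, he⟩
      subst hij
      have := eq_one_of_smul_eq hP (rep i).2 (mul_mem (inv_mem b.2) a.2) he
      exact Prod.ext rfl (Subtype.ext (inv_mul_eq_one.1 this).symm)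
    have hsub : insert P (Finset.univ.image F) ⊆ Fix := by
      intro Q hQ
      rw [hFix, Finset.mem_filter]
      refine ⟨Finset.mem_univ _, ?_⟩
      rcases Finset.mem_insert.1 hQ with rfl | hQ
      · exact htP'
      · obtain ⟨⟨⟨i, hi⟩, a⟩, -, rfl⟩ := Finset.mem_image.1 hQ
        show t • (a : G) • (rep i).1 = (a : G) • (rep i).1
        have hfixi : t • (rep i).1 = (rep i).1 := by
          refine (hiff ⟨t, mem_zpowers t⟩ (rep i)).1 ?_
          rw [hrep]
          exact Equiv.Perm.notMem_support.1 (Finset.mem_compl.1 hi)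
        rw [← mul_smul, show t * (a : G) = a * t from (htC a a.2).symm, mul_smul, hfixi]
    have hc := Finset.card_le_card hsub
    rw [Finset.card_insert_of_notMem (by
      intro h; obtain ⟨ia, -, he⟩ := Finset.mem_image.1 h; exact hne ia he),
      Finset.card_image_of_injective _ hinj, Finset.card_univ, Fintype.card_prod, Fintype.card_coe,
      ← Nat.card_eq_fintype_card (α := (P : Subgroup G)), hP] at hc
    omega
  -- the upper bound from the involutions of `N`
  set T : Finset G := Finset.univ.filter fun x => x ∈ N ∧ x * x = 1 ∧ x ≠ 1 with hT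
  have hTcard : T.card ≤ 39 := by
    have hsub : T ⊆ insert t ((Finset.univ.filter fun x => x ∈ N) \ Finset.univ.filter fun x => x ∈ C) := by
      intro x hx
      rw [hT, Finset.mem_filter] at hx
      obtain ⟨-, hxN, hx2, hx1⟩ := hx
      by_cases hxC : x ∈ C
      · exact Finset.mem_insert.2 (Or.inl (huniq x hxC hx2 hx1))
      · exact Finset.mem_insert_of_mem (by simp [hxN, hxC])
    have hcard : ∀ H : Subgroup G, (Finset.univ.filter fun x => x ∈ H).card = Nat.card H := fun H => by
      rw [Nat.card_eq_fintype_card, Fintype.card_subtype]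
    refine (Finset.card_le_card hsub).trans ((Finset.card_insert_le _ _).trans ?_)
    rw [Finset.card_sdiff_of_subset (fun x hx => by
      simp only [Finset.mem_filter, Finset.mem_univ, true_and] at hx ⊢; exact hCN hx),
      hcard, hcard, hcardN, hcardC]
  set S : Finset G := Finset.univ.filter fun g => g⁻¹ * t * g ∈ N with hS
  have hmemS : ∀ g, g ∈ S ↔ t • (g • P) = g • P := by
    intro g
    rw [hS, Finset.mem_filter, hNdef, ← SmallSimple.smul_sylow_eq_iff, mul_smul, mul_smul,
      inv_smul_eq_iff]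
    simp
  have hup : S.card ≤ 76 * T.card := by
    refine Finset.card_le_mul_card_image_of_maps_to (f := fun g => g⁻¹ * t * g) ?_ 76 fun x hx => ?_
    · intro g hg
      rw [hS, Finset.mem_filter] at hg
      rw [hT, Finset.mem_filter]
      refine ⟨Finset.mem_univ _, hg.2, ?_, fun h => ht1 ?_⟩
      · rw [show g⁻¹ * t * g * (g⁻¹ * t * g) = g⁻¹ * (t * t) * g by group, ht2]; group
      · rw [show t = g * (g⁻¹ * t * g) * g⁻¹ by group, h]; group
    · rcases Finset.eq_empty_or_nonempty (S.filter fun g => g⁻¹ * t * g = x) with h | ⟨g₀, hg₀⟩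
      · rw [h, Finset.card_empty]; omega
      · rw [Finset.mem_filter] at hg₀
        refine (Finset.card_le_card_of_injOn (t := Finset.univ.filter fun c => c ∈ Ct)
          (fun g => g * g₀⁻¹) (fun g hg => ?_) (mul_left_injective _).injOn).trans (le_of_eq ?_)
        · rw [Finset.mem_coe, Finset.mem_filter] at hg
          rw [Finset.mem_coe, Finset.mem_filter]
          refine ⟨Finset.mem_univ _, Subgroup.mem_centralizer_singleton_iff.2 ?_⟩
          calc g * g₀⁻¹ * t = g * (g₀⁻¹ * t * g₀) * g₀⁻¹ := by group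
            _ = g * (g⁻¹ * t * g) * g₀⁻¹ := by rw [hg₀.2, hg.2]
            _ = t * (g * g₀⁻¹) := by group
        · rw [← hCt, Nat.card_eq_fintype_card, Fintype.card_subtype]
  have hlow' : Fix.card * 76 ≤ S.card := by
    choose γ hγ using fun Q : Sylow 19 G => MulAction.exists_smul_eq G P Q
    haveI : Fintype N := Fintype.ofFinite _
    have h := Finset.card_le_card_of_injOn (s := Fix ×ˢ (Finset.univ : Finset N))
      (t := S) (fun Qn => γ Qn.1 * (Qn.2 : G)) (fun Qn hQ => ?_) ?_
    · rw [Finset.card_product, Finset.card_univ, ← Nat.card_eq_fintype_card, hcardN] at h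
      exact h
    · rw [Finset.mem_coe, Finset.mem_product, hFix, Finset.mem_filter] at hQ
      rw [Finset.mem_coe, hmemS, mul_smul, SmallSimple.smul_sylow_eq_iff.2 Qn.2.2, hγ]
      exact hQ.1.2
    · rintro ⟨Q, n⟩ - ⟨Q', n'⟩ - h
      have h' : γ Q * (n : G) = γ Q' * (n' : G) := h
      have hQQ : Q = Q' := by
        rw [← hγ Q, ← hγ Q']
        have := congrArg (· • P) h'
        simp only [mul_smul, SmallSimple.smul_sylow_eq_iff.2 n.2,
          SmallSimple.smul_sylow_eq_iff.2 n'.2] at this
        exact this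
      subst hQQ
      exact Prod.ext rfl (Subtype.ext (mul_left_cancel h'))
  omega

end Cfsg.Agent.Order175560
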