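import Cfsg.Agent.Lib.Order175560.Tools
import Cfsg.Agent.Lib.Transfer.Thompson

/-!
# Seventy-seven Sylow subgroups of order nineteen and a normaliser of order divisible by eight

Every involution of the centraliser fixes exactly one Sylow subgroup, so transfer kills the group.
-/

set_option autoImplicit false
set_option linter.style.haveILetI false
set_option linter.unusedSectionVars false

namespace Cfsg.Agent.Order175560

open Subgroup SmallSimple
open scoped Pointwise

variable {G : Type*} [Group G] [Finite G] [IsSimpleGroup G]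

theorem alt_four_no_fixed :
    ∀ σ : alternatingGroup (Fin 4), σ * σ = 1 → σ ≠ 1 → ∀ i, (σ : Equiv.Perm (Fin 4)) i ≠ i := by
  decide +kernel

theorem alt_four_sq : ∀ σ : alternatingGroup (Fin 4), σ ^ 8 = 1 → σ * σ = 1 := by
  decide +kernel

theorem card_alt_four : Nat.card (alternatingGroup (Fin 4)) = 12 := by
  rw [Nat.card_eq_fintype_card]; decide +kernel

omit [Group G] [Finite G] [IsSimpleGroup G] in
theorem four_elements {H : Type*} [Group H] {V : Subgroup H} (hV : Nat.card V = 4) {a b c d : H}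
    (ha : a ∈ V) (hb : b ∈ V) (hc : c ∈ V) (hd : d ∈ V) (hab : a ≠ b) (hac : a ≠ c) (had : a ≠ d)
    (hbc : b ≠ c) (hbd : b ≠ d) (hcd : c ≠ d) {x : H} (hx : x ∈ V) :
    x = a ∨ x = b ∨ x = c ∨ x = d := by
  classical
  haveI : Finite V := Nat.finite_of_card_ne_zero (by omega)
  haveI := Fintype.ofFinite V
  by_contra hne
  push Not at hne
  obtain ⟨h1, h2, h3, h4⟩ := hne
  have := Finset.card_le_univ ({⟨x, hx⟩, ⟨a, ha⟩, ⟨b, hb⟩, ⟨c, hc⟩, ⟨d, hd⟩} : Finset V)
  rw [← Nat.card_eq_fintype_card, hV, Finset.card_insert_of_notMem (by simp [h1, h2, h3, h4]),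
    Finset.card_insert_of_notMem (by simp [hab, hac, had]),
    Finset.card_insert_of_notMem (by simp [hbc, hbd]), Finset.card_pair (by simp [hcd])] at this
  omega

theorem false_of_seventy_seven (hG : ¬ IsMulCommutative G) [Fact (Nat.Prime 19)] (P : Sylow 19 G)
    (hP : Nat.card (P : Subgroup G) = 19) (h19 : 19 ∣ Nat.card G) {m : ℕ}
    (hG8 : Nat.card G = 2 ^ 3 * m) (hm : ¬ 2 ∣ m)
    (hn : Nat.card (Sylow 19 G) = 77) (h8 : 2 ^ 3 ∣ nCard P) : False := by
  classical
  haveI : Fact (Nat.Prime 2) := ⟨Nat.prime_two⟩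
  set C := centralizer ((P : Subgroup G) : Set G)
  set N := normalizer ((P : Subgroup G) : Set G)
  -- involutions of `C(P)` fix no other Sylow subgroup
  have hfix : ∀ v ∈ C, v * v = 1 → v ≠ 1 → ∀ Q : Sylow 19 G, v • Q = Q → Q = P := by
    intro v hv hv2 hv1 Q hQ
    by_contra hQP
    have ho : orderOf v = 2 := orderOf_eq_prime (by rw [pow_two]; exact hv2) hv1
    obtain ⟨q, φ, hφ, -, hiff, -⟩ := exists_centralizer_hom hG (by decide) h19 P hP (k := 4)
      (by rw [hn]) (zpowers v) (zpowers_le.2 hv) (by rw [Nat.card_zpowers, ho]; norm_num)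
    have hz : φ ⟨v, mem_zpowers v⟩ ≠ 1 := fun h =>
      hv1 (congrArg Subtype.val (hφ (h.trans φ.map_one.symm)))
    exact alt_four_no_fixed _ (by rw [← map_mul, ← map_one φ]; exact congrArg φ (Subtype.ext hv2)) hz
      (q ⟨Q, hQP⟩) ((hiff ⟨v, mem_zpowers v⟩ ⟨Q, hQP⟩).2 hQ)
  have hCN : C ≤ N := SmallSimple.centralizer_le_normalizer _
  have hclosed : ∀ v ∈ C, v * v = 1 → v ≠ 1 → ∀ g : G, g * v * g⁻¹ ∈ N → g * v * g⁻¹ ∈ C := by
    intro v hv hv2 hv1 g hg
    have h1 : g⁻¹ • P = P := by
      refine hfix v hv hv2 hv1 _ ?_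
      rw [← mul_smul, show v * g⁻¹ = g⁻¹ * (g * v * g⁻¹) by group, mul_smul,
        SmallSimple.smul_sylow_eq_iff.2 hg]
    have hgN : g ∈ N := by
      have := inv_mem (SmallSimple.smul_sylow_eq_iff.1 h1)
      rwa [inv_inv] at this
    intro a ha
    have ha' : g⁻¹ * a * g ∈ (P : Subgroup G) :=
      (Subgroup.mem_normalizer_iff.1 hgN _).2 (by rw [show g * (g⁻¹ * a * g) * g⁻¹ = a by group]; exact ha)
    calc a * (g * v * g⁻¹) = g * ((g⁻¹ * a * g) * v) * g⁻¹ := by group
      _ = g * (v * (g⁻¹ * a * g)) * g⁻¹ := by rw [hv _ ha']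
      _ = g * v * g⁻¹ * a := by group
  -- a Sylow 2-subgroup inside `N`
  obtain ⟨D₀, hD₀⟩ := Sylow.exists_subgroup_card_pow_prime 2 h8
  set D := D₀.map N.subtype with hDdef
  have hDN : D ≤ N := Subgroup.map_subtype_le _
  have hD : Nat.card D = 2 ^ 3 := by
    rw [hDdef, Subgroup.card_map_of_injective (Subgroup.subtype_injective _), hD₀]
  let S : Sylow 2 G := Sylow.ofCard D (by rw [hD, factorization_mul_eq Nat.prime_two hG8 hm])
  have hS : (S : Subgroup G) = D := rfl
  -- its intersection with `C`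
  set V := D ⊓ C with hVdef
  have hV : Nat.card V = 4 := by
    haveI : IsCyclic (P : Subgroup G) := isCyclic_of_prime_card hP
    set f := (P : Subgroup G).normalizerMonoidHom.comp (Subgroup.inclusion hDN)
    have hker : Nat.card f.ker = Nat.card V := by
      have : f.ker = V.subgroupOf D := by
        ext x
        rw [MonoidHom.mem_ker, Subgroup.mem_subgroupOf, hVdef, Subgroup.mem_inf]
        refine ⟨fun h => ⟨x.2, normalizer_hom_eq_one h⟩, fun h => ?_⟩
        have : Subgroup.inclusion hDN x ∈ (P : Subgroup G).normalizerMonoidHom.ker := by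
          rw [Subgroup.normalizerMonoidHom_ker, Subgroup.mem_subgroupOf]; exact h.2
        exact this
      rw [this, Nat.card_congr (Subgroup.subgroupOfEquivOfLe (inf_le_left : V ≤ D)).toEquiv]
    have hmul : Nat.card V * Nat.card f.range = 8 := by
      have h := Subgroup.card_mul_index f.ker
      rw [Subgroup.index_ker, hker, hD] at h
      exact h
    have hr : Nat.card f.range ∣ 18 := by
      refine (Subgroup.card_subgroup_dvd_card _).trans ?_
      rw [IsCyclic.card_mulAut, hP, Nat.totient_prime (by norm_num)]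
    have hV8 : Nat.card V ≠ 8 := fun h => by
      refine not_dvd_centralizer hG (by decide) h19 P hP (k := 4) (by rw [hn]) (r := 2) (n := 3)
        (by norm_num) (by rw [card_alt_four]; norm_num) ?_
      have := Subgroup.card_dvd_of_le (inf_le_right : V ≤ C)
      rw [h] at this
      exact this
    have h1 : Nat.card f.range ∣ 2 := by
      have := Nat.dvd_gcd (Dvd.intro_left _ hmul : Nat.card f.range ∣ 8) hr
      rwa [show Nat.gcd 8 18 = 2 from rfl] at this
    rcases (Nat.dvd_prime Nat.prime_two).1 h1 with h | h <;> rw [h] at hmul <;> omega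
  have hVD : V ≤ D := inf_le_left
  have hVC : V ≤ C := inf_le_right
  have hrel : V.relIndex D = 2 := by
    have h := Subgroup.card_mul_index (V.subgroupOf D)
    rw [Nat.card_congr (Subgroup.subgroupOfEquivOfLe hVD).toEquiv, hV, hD] at h
    change 4 * V.relIndex D = 2 ^ 3 at h
    omega
  have hsq : ∀ v ∈ V, v * v = 1 := by
    intro v hv
    have h19v : ¬ 19 ∣ Nat.card V := by rw [hV]; norm_num
    obtain ⟨q, φ, hφ, -⟩ := exists_centralizer_hom hG (by decide) h19 P hP (k := 4)
      (by rw [hn]) V hVC h19v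
    have h8' : (⟨v, hv⟩ : V) ^ 8 = 1 := by
      rw [← orderOf_dvd_iff_pow_eq_one]
      exact (_root_.orderOf_dvd_natCard _).trans (hV ▸ by norm_num)
    have := hφ (show φ (⟨v, hv⟩ * ⟨v, hv⟩) = φ 1 by
      rw [map_mul, map_one]; exact alt_four_sq _ (by rw [← map_pow, h8', map_one]))
    exact congrArg Subtype.val this
  have hidx2 : ∀ a ∈ D, ∀ b ∈ D, (a * b ∈ V ↔ (a ∈ V ↔ b ∈ V)) := by
    intro a ha b hb
    have := Subgroup.mul_mem_iff_of_index_two (H := V.subgroupOf D) hrel (a := ⟨a, ha⟩) (b := ⟨b, hb⟩)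
    simpa [Subgroup.mem_subgroupOf] using this
  by_cases hex : ∃ w ∈ D, w ∉ V ∧ w * w = 1
  · -- transfer
    obtain ⟨w, hwD, hwV, hw2⟩ := hex
    obtain ⟨M, hMn, hMi, hwM⟩ := Transfer.exists_index_two_of_involution S V (hS ▸ hVD)
      (hS ▸ hrel) w (by rw [pow_two]; exact hw2) (hS ▸ hwD) hwV fun g hg => by
        have hne : g * w * g⁻¹ ≠ 1 := fun h => hwV (by
          rw [show w = g⁻¹ * (g * w * g⁻¹) * g by group, h, mul_one, inv_mul_cancel]; exact one_mem V)
        have h := hclosed _ (hVC hg) (hsq _ hg) hne g⁻¹ (by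
          rw [show g⁻¹ * (g * w * g⁻¹) * g⁻¹⁻¹ = w by group]; exact hDN hwD)
        rw [show g⁻¹ * (g * w * g⁻¹) * g⁻¹⁻¹ = w by group] at h
        exact hwV ⟨hwD, h⟩
    rcases hMn.eq_bot_or_eq_top with h | h
    · rw [h, Subgroup.index_bot, hG8] at hMi
      omega
    · exact hwM (h ▸ Subgroup.mem_top w)
  push Not at hex
  -- now `D` is abelian with normaliser equal to centraliser
  obtain ⟨s, hsD, hsV⟩ : ∃ s ∈ D, s ∉ V := SetLike.exists_of_lt (lt_of_le_of_ne hVD fun h => by
    rw [h, hD] at hV; norm_num at hV)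
  set z := s * s with hzdef
  have hzV : z ∈ V := (hidx2 s hsD s hsD).2 Iff.rfl
  have hz1 : z ≠ 1 := hex s hsD hsV
  have hinvV : ∀ v ∈ V, v⁻¹ = v := fun v hv => inv_eq_of_mul_eq_one_right (hsq v hv)
  have hVcomm : ∀ a ∈ V, ∀ b ∈ V, a * b = b * a := fun a ha b hb => by
    rw [← hinvV _ (mul_mem ha hb), mul_inv_rev, hinvV a ha, hinvV b hb]
  have hsmem : ∀ v ∈ V, s⁻¹ * v * s ∈ V := fun v hv => by
    have h1 : s⁻¹ * v ∈ D := mul_mem (inv_mem hsD) (hVD hv)
    refine (hidx2 _ h1 s hsD).2 ⟨fun h => ?_, fun h => absurd h hsV⟩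
    exact absurd (inv_mem_iff.1 (((hidx2 _ (inv_mem hsD) v (hVD hv)).1 h).2 hv)) hsV
  have hsc : ∀ v ∈ V, s * v = v * s := by
    intro v hv
    by_cases h1 : v = 1
    · subst h1; simp
    by_cases h2 : v = z
    · subst h2; rw [hzdef]; group
    have hne1 : (1 : G) ≠ z := Ne.symm hz1
    have e : s⁻¹ * v * s = v := by
      rcases four_elements hV (one_mem V) hzV hv (mul_mem hv hzV) hne1 (Ne.symm h1)
        (fun h => h2 (by rw [← hinvV z hzV]; exact eq_inv_of_mul_eq_one_left h.symm))
        (Ne.symm h2) (fun h => h1 (by simpa using h.symm)) (fun h => hz1 (by simpa using h))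
        (hsmem v hv) with h | h | h | h
      · exact absurd (by rw [show v = s * (s⁻¹ * v * s) * s⁻¹ by group, h]; group) h1
      · refine absurd ?_ h2
        rw [show v = s * (s⁻¹ * v * s) * s⁻¹ by group, h, hzdef]; group
      · exact h
      · exfalso
        refine hex (s * v) (mul_mem hsD (hVD hv)) (fun hsv => hsV ?_) ?_
        · exact ((hidx2 s hsD v (hVD hv)).1 hsv).2 hv
        · calc s * v * (s * v) = s * s * (s⁻¹ * v * s) * v := by group
            _ = z * (z * v) * v := by rw [h, hVcomm v hv z hzV, hzdef]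
            _ = z * z * (v * v) := by group
            _ = 1 := by rw [hsq z hzV, hsq v hv, mul_one]
    calc s * v = s * (s⁻¹ * v * s) := by rw [e]
      _ = v * s := by group
  have hdec : ∀ x ∈ D, x ∉ V → s * x ∈ V := fun x hx hxV =>
    (hidx2 s hsD x hx).2 ⟨fun h => absurd h hsV, fun h => absurd h hxV⟩
  have hsx : ∀ x ∈ D, x ∉ V → ∃ v ∈ V, x = s * v := fun x hx hxV =>
    ⟨z * (s * x), mul_mem hzV (hdec x hx hxV), by
      have hsz : s * z = z * s := by rw [hzdef]; group
      calc x = z⁻¹ * (s * s) * x := by rw [hzdef]; group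
        _ = z * s * (s * x) := by rw [hinvV z hzV]; group
        _ = s * (z * (s * x)) := by rw [← hsz]; group⟩
  have hsquare : ∀ x ∈ D, x ∉ V → x * x = z := fun x hx hxV => by
    obtain ⟨v, hv, rfl⟩ := hsx x hx hxV
    calc s * v * (s * v) = s * (v * s) * v := by group
      _ = s * s * (v * v) := by rw [← hsc v hv]; group
      _ = z := by rw [hsq v hv, mul_one]
  have hle : normalizer ((S : Subgroup G) : Set G) ≤ centralizer ((S : Subgroup G) : Set G) := by
    rw [hS]
    have hconjV : ∀ g ∈ normalizer (D : Set G), ∀ v ∈ V, g * v * g⁻¹ ∈ V := by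
      intro g hg v hv
      by_contra h
      have hmem := (Subgroup.mem_normalizer_iff.1 hg v).1 (hVD hv)
      refine hex _ hmem h ?_
      rw [show g * v * g⁻¹ * (g * v * g⁻¹) = g * (v * v) * g⁻¹ by group, hsq v hv]
      group
    have hconjs : ∀ g ∈ normalizer (D : Set G), g * s * g⁻¹ ∈ D ∧ g * s * g⁻¹ ∉ V := by
      intro g hg
      refine ⟨(Subgroup.mem_normalizer_iff.1 hg s).1 hsD, fun h => ?_⟩
      have h2 := hsq _ h
      rw [show g * s * g⁻¹ * (g * s * g⁻¹) = g * z * g⁻¹ by rw [hzdef]; group] at h2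
      exact hz1 (conj_eq_one_iff.1 h2)
    have hgz : ∀ g ∈ normalizer (D : Set G), g * z * g⁻¹ = z := fun g hg => by
      rw [show g * z * g⁻¹ = g * s * g⁻¹ * (g * s * g⁻¹) by rw [hzdef]; group]
      exact hsquare _ (hconjs g hg).1 (hconjs g hg).2
    have hg2 : ∀ g ∈ normalizer (D : Set G), ∀ v ∈ V,
        g * g * v * (g * g)⁻¹ = v := by
      intro g hg v hv
      by_cases h1 : v = 1
      · subst h1; group
      by_cases h2 : v = z
      · subst h2
        rw [show g * g * z * (g * g)⁻¹ = g * (g * z * g⁻¹) * g⁻¹ by group, hgz g hg, hgz g hg]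
      rcases four_elements hV (one_mem V) hzV hv (mul_mem hv hzV) (Ne.symm hz1) (Ne.symm h1)
        (fun h => h2 (by rw [← hinvV z hzV]; exact eq_inv_of_mul_eq_one_left h.symm))
        (Ne.symm h2) (fun h => h1 (by simpa using h.symm)) (fun h => hz1 (by simpa using h))
        (hconjV g hg v hv) with h | h | h | h
      · exact absurd (conj_eq_one_iff.1 h) h1
      · refine absurd ?_ h2
        conv_rhs at h => rw [← hgz g hg]
        exact mul_left_cancel (mul_right_cancel h)
      · rw [show g * g * v * (g * g)⁻¹ = g * (g * v * g⁻¹) * g⁻¹ by group, h, h]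
      · rw [show g * g * v * (g * g)⁻¹ = g * (g * v * g⁻¹) * g⁻¹ by group, h,
          show g * (v * z) * g⁻¹ = (g * v * g⁻¹) * (g * z * g⁻¹) by group, h, hgz g hg,
          mul_assoc, hsq z hzV, mul_one]
    intro g hg
    set f := D.normalizerMonoidHom
    refine normalizer_hom_eq_one (x := ⟨g, hg⟩) ?_
    have hDsub : D.subgroupOf (normalizer (D : Set G)) ≤ f.ker := by
      rw [Subgroup.normalizerMonoidHom_ker]
      intro x hx
      rw [Subgroup.mem_subgroupOf] at hx ⊢
      intro a ha
      have key : ∀ a ∈ D, ∀ v ∈ V, a * v = v * a := by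
        intro a ha v hv
        by_cases haV : a ∈ V
        · exact hVcomm a haV v hv
        · obtain ⟨w, hw, rfl⟩ := hsx a ha haV
          exact (Commute.mul_left (hsc v hv) (hVcomm w hw v hv)).eq
      by_cases hxV : (x : G) ∈ V
      · exact key a ha x hxV
      · by_cases haV : a ∈ V
        · exact (key x hx a haV).symm
        · obtain ⟨v, hv, rfl⟩ := hsx a ha haV
          obtain ⟨w, hw, hxw⟩ := hsx x hx hxV
          rw [hxw]
          exact ((Commute.mul_right (Commute.refl s) (hsc w hw)).mul_left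
            (Commute.mul_right ((hsc v hv).symm) (hVcomm v hv w hw))).eq
    have hodd : ¬ 2 ∣ Nat.card f.range := by
      intro h2
      apply hm
      have h1 : Nat.card f.range ∣ (D.subgroupOf (normalizer (D : Set G))).index := by
        rw [← Subgroup.index_ker]; exact Subgroup.index_dvd_of_le hDsub
      have h3 : (D.subgroupOf (normalizer (D : Set G))).index ∣ D.index :=
        Subgroup.relIndex_dvd_index_of_le Subgroup.le_normalizer
      have h4 := Subgroup.card_mul_index D
      rw [hD, hG8] at h4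
      rw [← Nat.eq_of_mul_eq_mul_left (by norm_num) h4]
      exact h2.trans (h1.trans h3)
    have h4 : f ⟨g, hg⟩ ^ 4 = 1 := by
      rw [← map_pow]
      have hgg : g * g ∈ normalizer (D : Set G) := mul_mem hg hg
      have : ((⟨g, hg⟩ ^ 4 : normalizer (D : Set G)) : G) ∈ centralizer (D : Set G) := by
        rw [Subgroup.coe_pow]
        intro x hx
        show x * g ^ 4 = g ^ 4 * x
        have hfixx : (g * g) * (g * g) * x * ((g * g) * (g * g))⁻¹ = x := by
          by_cases hxV : x ∈ V
          · exact hg2 _ hgg x hxV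
          · obtain ⟨v, hv, rfl⟩ := hsx x hx hxV
            obtain ⟨t, ht, hst⟩ := hsx _ (hconjs _ hgg).1 (hconjs _ hgg).2
            have ht' := hg2 g hg t ht
            have hv' := hg2 _ hgg v hv
            calc g * g * (g * g) * (s * v) * (g * g * (g * g))⁻¹ =
                (g * g) * ((g * g) * s * (g * g)⁻¹) * (g * g)⁻¹ *
                  (g * g * (g * g) * v * (g * g * (g * g))⁻¹) := by group
              _ = (g * g) * (s * t) * (g * g)⁻¹ * v := by rw [hst, hv']
              _ = (g * g * s * (g * g)⁻¹) * (g * g * t * (g * g)⁻¹) * v := by group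
              _ = s * v := by rw [hst, ht', mul_assoc s t t, hsq t ht, mul_one]
        rw [show g ^ 4 = g * g * (g * g) by simp [pow_succ, mul_assoc]]
        exact (mul_inv_eq_iff_eq_mul.1 hfixx).symm
      have h' : (⟨g, hg⟩ ^ 4 : normalizer (D : Set G)) ∈ f.ker := by
        rw [Subgroup.normalizerMonoidHom_ker, Subgroup.mem_subgroupOf]; exact this
      exact h'
    have hd : orderOf (f ⟨g, hg⟩) ∣ Nat.card f.range :=
      Subgroup.orderOf_dvd_natCard _ ⟨_, rfl⟩
    refine orderOf_eq_one_iff.1 (Nat.eq_one_of_dvd_coprimes ?_ (orderOf_dvd_of_pow_eq_one h4) hd)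
    exact (Nat.prime_two.coprime_iff_not_dvd.2 hodd).pow_left 2
  exact not_hasNormalPComplement hG (p := 2) (hG8 ▸ dvd_mul_of_dvd_left (by norm_num) m)
    (Transfer.hasNormalPComplement_of_normalizer_le_centralizer S hle)

end Cfsg.Agent.Order175560
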