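import Cfsg.Agent.Lib.Order175560.Parity
import Cfsg.Agent.Lib.Order175560.KleinCentral
import Cfsg.Agent.Lib.Order175560.CentralInvolution
import Cfsg.Agent.Lib.Order175560.Cases

/-!
# No simple group has as order a proper divisor of 175560 divisible by 19 (other than 19)
-/

set_option autoImplicit false
set_option linter.style.haveILetI false
set_option linter.unusedSectionVars false

namespace Cfsg.Agent.Order175560

open Subgroup SmallSimple

variable {G : Type*} [Group G] [Finite G] [IsSimpleGroup G]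

theorem count_nineteen : ∀ i ∈ (120 : ℕ).divisors, ∀ j ∈ (77 : ℕ).divisors, (i * j) % 19 = 1 → 5 ≤ i * j →
    i * j = 20 ∨ i * j = 77 ∨ i * j = 210 ∨ i * j = 1540 := by
  decide +kernel

theorem data_twenty : ∀ w ∈ (462 : ℕ).divisors, w ≠ 462 → ∀ c ∈ w.divisors, c ≠ w → w ∣ c * (19 - 1) →
    ¬ 2 ∣ c → ¬ 3 ∣ c → ¬ 5 ∣ c → ¬ 7 ∣ c → ¬ 11 ∣ c → c = 1 ∧ (w = 2 ∨ w = 3 ∨ w = 6) := by
  decide +kernel

theorem data_seventy_seven : ∀ w ∈ (120 : ℕ).divisors, w ≠ 120 → ∀ c ∈ w.divisors, c ≠ w → w ∣ c * (19 - 1) →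
    ¬ 5 ∣ c → ¬ 2 ^ 3 ∣ c → ¬ 7 ∣ c ∧ ¬ 11 ∣ c ∧
      (w = 2 ∨ w = 3 ∨ w = 4 ∨ w = 6 ∨ w = 8 ∨ w = 12 ∨ w = 24) := by
  decide +kernel

theorem data_two_hundred_ten : ∀ w ∈ (44 : ℕ).divisors, w ≠ 44 → ∀ c ∈ w.divisors, c ≠ w → w ∣ c * (19 - 1) →
    (w = 2 ∧ c = 1) ∨ (w = 4 ∧ c = 2) ∨ (w = 22 ∧ c = 11) := by
  decide +kernel

theorem data_fifteen_forty : ∀ w ∈ (6 : ℕ).divisors, w ≠ 6 → ∀ c ∈ w.divisors, c ≠ w → w ∣ c * (19 - 1) →
    (w = 2 ∨ w = 3) ∧ c = 1 := by
  decide +kernel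

theorem card_alt_one : Nat.card (alternatingGroup (Fin 1)) = 1 :=
  Nat.card_eq_one_iff_unique.2 ⟨inferInstance, inferInstance⟩

theorem false_of_simple (hG : ¬ IsMulCommutative G) {d : ℕ} (hd : d ∣ 9240) (hd' : d ≠ 9240)
    (hn : Nat.card G = 19 * d) : False := by
  haveI : Fact (Nat.Prime 19) := ⟨by norm_num⟩
  have hm : ¬ 19 ∣ d := fun h => absurd (h.trans hd) (by norm_num)
  have h19 : 19 ∣ Nat.card G := hn ▸ dvd_mul_right 19 d
  have hall : ∀ R : Sylow 19 G, Nat.card (R : Subgroup G) = 19 := fun R =>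
    (exists_local_data hG hn hm R).1
  obtain ⟨P⟩ : Nonempty (Sylow 19 G) := inferInstance
  obtain ⟨hP, n, w, c, hcount, hw, hc, hnw, hmod, h5, hcw, hne, hwd⟩ := exists_local_data hG hn hm P
  have hNall : ∀ R : Sylow 19 G, nCard R = 19 * w := fun R => by
    rw [← hw]
    exact Nat.eq_of_mul_eq_mul_left (Nat.card_pos (α := Sylow 19 G))
      ((card_sylow_mul_card_normalizer R).trans (card_sylow_mul_card_normalizer P).symm)
  have hCall : ∀ R : Sylow 19 G, cCard R = 19 * c := fun R => (cCard_eq R P).trans hc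
  have hnoc : ∀ (r j k : ℕ), r.Prime → r ≠ 19 → n = 1 + k * 19 →
      ¬ r ^ j ∣ Nat.card (alternatingGroup (Fin k)) → ¬ r ^ j ∣ c := by
    intro r j k hr hr19 hnk hk h
    haveI : Fact r.Prime := ⟨hr⟩
    exact not_dvd_centralizer hG (by decide) h19 P hP (by rw [hcount, hnk]) hr19 hk
      (by rw [show Nat.card (centralizer ((P : Subgroup G) : Set G)) = 19 * c from hc]
          exact dvd_mul_of_dvd_right h 19)
  have hn4 : n = 20 ∨ n = 77 ∨ n = 210 ∨ n = 1540 := by
    have h1 : n ∣ 120 * 77 := (Dvd.intro w hnw).trans hd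
    obtain ⟨i, j, hi, hj, rfl⟩ := Nat.dvd_mul.1 h1
    exact count_nineteen i (Nat.mem_divisors.2 ⟨hi, by norm_num⟩) j
      (Nat.mem_divisors.2 ⟨hj, by norm_num⟩) hmod h5
  have hw0 : w ≠ 0 := fun h => by subst h; exact hm (hnw ▸ by simp)
  have hcm : c ∈ w.divisors := Nat.mem_divisors.2 ⟨hcw, hw0⟩
  have hwmem : ∀ k, n * k = 9240 → w ∈ k.divisors ∧ w ≠ k := fun k hk => by
    refine ⟨Nat.mem_divisors.2 ⟨Nat.dvd_of_mul_dvd_mul_left (Nat.pos_of_ne_zero fun h0 => ?_)
      (hnw.symm ▸ hk.symm ▸ hd : n * w ∣ n * k), fun h => ?_⟩, fun h => hd' (by rw [← hnw, h, hk])⟩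
    · rw [h0] at h5; omega
    · rw [h, mul_zero] at hk; omega
  rcases hn4 with rfl | rfl | rfl | rfl
  · -- twenty Sylow subgroups
    obtain ⟨hwm, hwne⟩ := hwmem 462 rfl
    have hno : ∀ r : ℕ, r.Prime → r ≠ 19 → ¬ r ∣ c := fun r hr hr19 h =>
      hnoc r 1 1 hr hr19 rfl (by rw [card_alt_one, pow_one]; exact hr.not_dvd_one) (by rwa [pow_one])
    obtain ⟨rfl, h | rfl | h⟩ := data_twenty w hwm hwne c hcm hne hwd (hno 2 Nat.prime_two (by norm_num))
      (hno 3 Nat.prime_three (by norm_num)) (hno 5 (by norm_num) (by norm_num))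
      (hno 7 (by norm_num) (by norm_num)) (hno 11 (by norm_num) (by norm_num))
    · exact false_of_twenty hG P hP hcount (by rw [hw, h]; norm_num) (by rw [hc]; norm_num)
    · exact false_of_degree_check hG (p := 19) (e := 3) (n0 := 20) (m := 60) (Or.inr rfl)
        (by rw [hn, ← hnw]) (by norm_num) (by norm_num) (by norm_num) (by norm_num)
        (by decide +kernel) [20] (by decide +kernel) (fun h => absurd h (by norm_num))
        (fun _ => by decide +kernel)
    · exact false_of_twenty hG P hP hcount (by rw [hw, h]; norm_num) (by rw [hc]; norm_num)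
  · -- seventy-seven Sylow subgroups
    obtain ⟨hwm, hwne⟩ := hwmem 120 rfl
    obtain ⟨h7, h11, hcases⟩ := data_seventy_seven w hwm hwne c hcm hne hwd
      (fun h => hnoc 5 1 4 (by norm_num) (by norm_num) rfl (by rw [card_alt_four]; norm_num) (by rwa [pow_one]))
      (hnoc 2 3 4 Nat.prime_two (by norm_num) rfl (by rw [card_alt_four]; norm_num))
    have hmin : ∀ q m : ℕ, q.Prime → q ≤ 3 → Nat.card G = q * m → 1 < m → ¬ 2 ∣ m →
        (q = 3 → ¬ 3 ∣ m) → False := by
      intro q m hq hq3 hG' hm1 h2 h3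
      refine false_of_min_exponent_one hq hG' hm1 fun r hr hrm => ?_
      have := hr.two_le
      by_contra hle
      have hr2 : r ≠ 2 := fun h => h2 (h ▸ hrm)
      have hr3 : q = 3 → r ≠ 3 := fun hq3 h => h3 hq3 (h ▸ hrm)
      omega
    haveI : Fact (Nat.Prime 2) := ⟨Nat.prime_two⟩
    rcases hcases with rfl | rfl | rfl | rfl | rfl | rfl | rfl
    · exact hmin 2 1463 Nat.prime_two (by norm_num) (by rw [hn, ← hnw]) (by norm_num) (by norm_num)
        (fun _ => by norm_num)
    · exact hmin 3 1463 Nat.prime_three le_rfl (by rw [hn, ← hnw]) (by norm_num) (by norm_num)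
        (fun _ => by norm_num)
    · -- order 5852
      obtain ⟨S⟩ : Nonempty (Sylow 2 G) := inferInstance
      have hS : Nat.card (S : Subgroup G) = 2 ^ 2 :=
        card_sylow_subgroup (m := 1463) (by rw [hn, ← hnw]; norm_num) (by norm_num) S
      haveI : IsMulCommutative (S : Subgroup G) := IsPGroup.isMulCommutative_of_card_eq_prime_sq hS
      refine not_hasNormalPComplement hG (p := 2) (by rw [hn, ← hnw]; norm_num)
        (Transfer.hasNormalPComplement_of_primes S 2 hS fun q hq hq2 hqG j hj hdiv => ?_)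
      have := hq.two_le
      have hle := Nat.le_of_dvd (Nat.sub_pos_of_lt (Nat.pow_lt_pow_right (by norm_num) hj)) hdiv
      have h1 : 1 ≤ 2 ^ j := Nat.one_le_two_pow
      have hq3 : q = 3 := by
        have : q ≤ 3 := by norm_num at hle ⊢; omega
        omega
      subst hq3
      rw [hn, ← hnw] at hqG
      norm_num at hqG
    · exact hmin 2 4389 Nat.prime_two (by norm_num) (by rw [hn, ← hnw]) (by norm_num) (by norm_num)
        (fun h => absurd h (by norm_num))
    · exact false_of_seventy_seven hG P hP h19 (m := 1463) (by rw [hn, ← hnw]; norm_num) (by norm_num)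
        hcount (by rw [hw]; norm_num)
    · exact false_of_seven hG (m := 2508) (a := 132) (b := 19) (a' := 84) (b' := 19)
        (by rw [hn, ← hnw]) (by norm_num) (by norm_num) (by rw [hn, ← hnw]) (by norm_num)
        (fun R _ => ⟨hall R, c, hCall R, h7, h11⟩) (by decide +kernel) (by decide +kernel)
        (by decide +kernel)
    · exact false_of_seventy_seven hG P hP h19 (m := 4389) (by rw [hn, ← hnw]; norm_num) (by norm_num)
        hcount (by rw [hw]; norm_num)
  · -- 210 Sylow subgroups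
    obtain ⟨hwm, hwne⟩ := hwmem 44 rfl
    rcases data_two_hundred_ten w hwm hwne c hcm hne hwd with ⟨rfl, rfl⟩ | ⟨rfl, rfl⟩ | ⟨rfl, rfl⟩
    · exact false_of_7980 hG (by rw [hn, ← hnw]) fun R _ => ⟨hall R, hCall R⟩
    · exact false_of_two_hundred_ten hG (by rw [hn, ← hnw]) P hP hcount hw hc
    · exact false_of_87780 hG (by rw [hn, ← hnw]) fun R _ =>
        ⟨hall R, Or.inl ⟨hNall R, hCall R⟩⟩
  · -- 1540 Sylow subgroups
    obtain ⟨hwm, hwne⟩ := hwmem 6 rfl
    obtain ⟨rfl | rfl, rfl⟩ := data_fifteen_forty w hwm hwne c hcm hne hwd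
    · exact false_of_seven hG (m := 8360) (a := 88) (b := 95) (a' := 56) (b' := 95)
        (by rw [hn, ← hnw]) (by norm_num) (by norm_num) (by rw [hn, ← hnw]) (by norm_num)
        (fun R _ => ⟨hall R, 1, hCall R, by norm_num, by norm_num⟩) (by decide +kernel) (by decide +kernel)
        (by decide +kernel)
    · exact false_of_87780 hG (by rw [hn, ← hnw]) fun R _ => ⟨hall R, Or.inr (hCall R)⟩

end Cfsg.Agent.Order175560
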