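import Cfsg.Agent.S0496
import Cfsg.Agent.Lib.SmallSimple.Below6233.CasesA
import Cfsg.Agent.Lib.Order175560.NoSimple
import Cfsg.Agent.Lib.PrimeGraph.ThreePrimes

/-!
# Groups of order dividing 87780: the simple ones and the shape of a non-solvable one
-/

set_option autoImplicit false
set_option linter.style.haveILetI false
set_option linter.unusedSectionVars false

namespace Cfsg.Agent.Order175560

open Subgroup SmallSimple

universe u

theorem dvd_cases_87780 {d : ℕ} (h : d ∣ 87780) : 4 ∣ d ∨ d ∣ 43890 := by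
  obtain ⟨i, j, hi, hj, rfl⟩ := (Nat.dvd_mul (m := 4) (n := 21945)).1 (by simpa using h)
  have := Nat.le_of_dvd (by norm_num) hi
  interval_cases i
  · norm_num at hi
  · exact Or.inr (by rw [one_mul]; exact hj.trans (by norm_num))
  · exact Or.inr (show 2 * j ∣ 43890 by simpa using mul_dvd_mul_left 2 hj)
  · norm_num at hi
  · exact Or.inl (dvd_mul_right 4 j)

theorem squarefree_43890 : Squarefree (43890 : ℕ) := by
  have h : ∀ {a b : ℕ}, a.Prime → ¬ a ∣ b → Squarefree b → Squarefree (a * b) := fun ha hab hb =>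
    (Nat.squarefree_mul ((Nat.Prime.coprime_iff_not_dvd ha).2 hab)).2 ⟨ha.squarefree, hb⟩
  rw [show (43890 : ℕ) = 2 * (3 * (5 * (7 * (11 * 19)))) by norm_num]
  exact h Nat.prime_two (by norm_num) (h Nat.prime_three (by norm_num) (h (by norm_num) (by norm_num)
    (h (by norm_num) (by norm_num) (h (by norm_num) (by norm_num) (by norm_num : Nat.Prime 19).squarefree))))

theorem four_dvd_of_not_solvable {K : Type u} [Group K] [Finite K] (h : Nat.card K ∣ 87780)
    (hns : ¬ Group.IsSolvable K) : 4 ∣ Nat.card K := by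
  refine (dvd_cases_87780 h).resolve_right fun h' => hns ?_
  haveI := IsZGroup.of_squarefree (G := K) (squarefree_43890.squarefree_of_dvd h')
  infer_instance

theorem simple_cases : ∀ i ∈ (1155 : ℕ).divisors,
    (4 * i ≤ 1092 ∧ ∀ r ∈ [168, 360, 504, 1092], 4 * i ≠ r) ∨ 4 * i = 1540 ∨ 4 * i = 4620 := by
  decide +kernel

theorem fifteen_forty : ∀ k ∈ (140 : ℕ).divisors, k % 11 = 1 → k < 5 := by decide +kernel

theorem simple_order {N : Type u} [Group N] [Finite N] [IsSimpleGroup N] (hN : ¬ IsMulCommutative N)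
    (h : Nat.card N ∣ 87780) : Nat.card N = 60 ∨ Nat.card N = 660 := by
  obtain ⟨e, he⟩ := four_dvd_of_not_solvable h fun hs =>
    hN (isMulCommutative_iff.2 fun a b => (IsSimpleGroup.comm_iff_isSolvable.2 hs) a b)
  have he' : e ∣ 21945 := Nat.dvd_of_mul_dvd_mul_left (show 0 < 4 by norm_num)
    (show 4 * e ∣ 4 * 21945 from he ▸ h)
  by_cases h19 : 19 ∣ e
  · obtain ⟨f, rfl⟩ := h19
    exfalso
    have hf : f ∣ 1155 := Nat.dvd_of_mul_dvd_mul_left (show 0 < 19 by norm_num)
      (show 19 * f ∣ 19 * 1155 from he')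
    refine false_of_simple hN (d := 4 * f)
      ((mul_dvd_mul_left 4 hf).trans (by norm_num)) (fun hd => ?_) (by rw [he]; ring)
    have := Nat.le_of_dvd (by norm_num) hf
    omega
  have he'' : e ∣ 1155 := by
    refine (((by norm_num : Nat.Prime 19).coprime_iff_not_dvd.2 h19).symm).dvd_of_dvd_mul_left ?_
    exact he'
  rcases simple_cases e (Nat.mem_divisors.2 ⟨he'', by norm_num⟩) with ⟨hle, hne⟩ | h4 | h4
  · have := hne 168 (by simp)
    have := hne 360 (by simp)
    have := hne 504 (by simp)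
    have := hne 1092 (by simp)
    have := Cfsg.Agent.S0496.result hN (he ▸ hle)
    omega
  · exfalso
    haveI : Fact (Nat.Prime 11) := ⟨by norm_num⟩
    have hn : Nat.card N = 11 * 140 := by rw [he, h4]
    obtain ⟨P⟩ : Nonempty (Sylow 11 N) := inferInstance
    obtain ⟨-, n, w, c, -, -, -, hnw, hmod, h5, -⟩ := exists_local_data hN hn (by norm_num) P
    have := fifteen_forty n (Nat.mem_divisors.2 ⟨⟨w, hnw.symm⟩, by norm_num⟩) hmod
    omega
  · exact absurd (he.trans h4) (Below6233.card_ne_4620 hN)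

theorem exists_radical (G : Type u) [Group G] [Finite G] : ∃ R : Subgroup G, R.Normal ∧
    Group.IsSolvable R ∧ ∀ N : Subgroup G, N.Normal → Group.IsSolvable N → N ≤ R := by
  classical
  let S : Set (Subgroup G) := {N | N.Normal ∧ Group.IsSolvable N}
  obtain ⟨R, hR, hmax⟩ := (Set.toFinite S).exists_maximalFor (fun N : Subgroup G => Nat.card N) S
    ⟨⊥, inferInstance, inferInstance⟩
  refine ⟨R, hR.1, hR.2, fun N hN hNs => ?_⟩
  haveI := hR.1
  haveI := hR.2
  haveI := hN
  haveI := hNs
  have hsup : Group.IsSolvable ↥(R ⊔ N) :=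
    PrimeGraph.isSolvable_sup_of_le_normalizer R N le_normalizer_of_normal
  have hle := hmax (j := R ⊔ N) ⟨inferInstance, hsup⟩ (Subgroup.card_le_of_le le_sup_left)
  exact le_sup_right.trans (Subgroup.eq_of_le_of_card_ge (le_sup_left : R ≤ R ⊔ N) hle).ge

/-- A group of order dividing 87780 without solvable normal subgroups has a simple normal subgroup. -/
theorem exists_simple_normal {Q : Type u} [Group Q] [Finite Q] [Nontrivial Q]
    (hQ : Nat.card Q ∣ 87780) (hrad : ∀ X : Subgroup Q, X.Normal → Group.IsSolvable X → X = ⊥) :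
    ∃ N : Subgroup Q, N.Normal ∧ IsSimpleGroup N ∧ ¬ IsMulCommutative N := by
  classical
  obtain ⟨N, ⟨hNn, hN0⟩, hmin⟩ := (Set.toFinite {X : Subgroup Q | X.Normal ∧ X ≠ ⊥}).exists_minimalFor
    (fun X : Subgroup Q => Nat.card X) _ ⟨⊤, inferInstance, by
      intro h; exact (top_ne_bot : (⊤ : Subgroup Q) ≠ ⊥) h⟩
  haveI := hNn
  have hNmin : ∀ X : Subgroup Q, X.Normal → X ≤ N → X ≠ ⊥ → X = N := fun X hX hle h0 =>
    Subgroup.eq_of_le_of_card_ge hle (hmin ⟨hX, h0⟩ (Subgroup.card_le_of_le hle))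
  have hNns : ¬ Group.IsSolvable N := fun h => hN0 (hrad N hNn h)
  have hdN : Nat.card N ∣ 87780 := (card_subgroup_dvd_card N).trans hQ
  haveI : Nontrivial N := (Subgroup.nontrivial_iff_ne_bot N).2 hN0
  obtain ⟨R, hRn, hRs, hRmax⟩ := exists_radical N
  have hconj : ∀ (X : Subgroup N) (q : Q), X.Normal →
      ∃ Y : Subgroup N, Y.Normal ∧ Y.map N.subtype = (X.map N.subtype).map (MulAut.conj q).toMonoidHom ∧
        Nat.card Y = Nat.card X ∧ (Group.IsSolvable X → Group.IsSolvable Y) := by
    intro X q hX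
    let a : MulAut N := MulAut.conjNormal q
    refine ⟨X.map a.toMonoidHom, hX.map _ a.surjective, ?_, Subgroup.card_map_of_injective a.injective, fun h => ?_⟩
    · rw [map_map, map_map]
      congr 1
    · haveI := h
      exact Group.isSolvable_of_surjective (f := a.toMonoidHom.subgroupMap X)
        (a.toMonoidHom.subgroupMap_surjective X)
  have hR : R = ⊥ := by
    refine (Subgroup.map_eq_bot_iff_of_injective R N.subtype_injective).1 (hrad _ ⟨fun v hv q => ?_⟩ ?_)
    · obtain ⟨Y, hY, hYm, -, hYs⟩ := hconj R q hRn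
      have hle := Subgroup.map_mono (f := N.subtype) (hRmax Y hY (hYs hRs))
      rw [hYm] at hle
      exact hle ⟨v, hv, rfl⟩
    · haveI := hRs
      exact Group.isSolvable_of_surjective (f := N.subtype.subgroupMap R)
        (N.subtype.subgroupMap_surjective R)
  obtain ⟨M, ⟨hMn, hM0⟩, hMmin⟩ := (Set.toFinite {X : Subgroup N | X.Normal ∧ X ≠ ⊥}).exists_minimalFor
    (fun X : Subgroup N => Nat.card X) _ ⟨⊤, inferInstance, by
      intro h; exact (top_ne_bot : (⊤ : Subgroup N) ≠ ⊥) h⟩
  haveI := hMn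
  have hM4 : 4 ∣ Nat.card M := four_dvd_of_not_solvable ((card_subgroup_dvd_card M).trans hdN)
    fun h => hM0 (le_bot_iff.1 (hR ▸ hRmax M hMn h))
  have hMQ : (M.map N.subtype).Normal := by
    refine ⟨fun v hv q => ?_⟩
    obtain ⟨Y, hY, hYm, hYc, -⟩ := hconj M q hMn
    have hYM : Y = M := by
      haveI := hY
      by_cases h0 : M ⊓ Y = ⊥
      · exfalso
        have h1 : Nat.card Y ∣ M.index := by
          have e : M.relIndex Y = Nat.card Y := by
            rw [← Subgroup.inf_relIndex_right, h0, Subgroup.relIndex_bot_left]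
          exact e ▸ Subgroup.relIndex_dvd_index_of_normal M Y
        have h2 : 16 ∣ Nat.card N := by
          rw [← Subgroup.card_mul_index M]
          exact (show 16 = 4 * 4 by norm_num) ▸ mul_dvd_mul hM4 ((hYc.symm ▸ hM4).trans h1)
        have := h2.trans hdN
        norm_num at this
      · have hle := hMmin ⟨(inferInstance : (M ⊓ Y).Normal), h0⟩ (Subgroup.card_le_of_le inf_le_left)
        have hMY : M ≤ Y := (Subgroup.eq_of_le_of_card_ge inf_le_left hle).symm.le.trans inf_le_right
        exact (Subgroup.eq_of_le_of_card_ge hMY (le_of_eq hYc)).symm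
    have := hYM ▸ hYm
    rw [this]
    exact ⟨v, hv, rfl⟩
  have hMtop : M = ⊤ := by
    have h := hNmin _ hMQ (Subgroup.map_subtype_le M)
      (fun e => hM0 ((Subgroup.map_eq_bot_iff_of_injective M N.subtype_injective).1 e))
    refine Subgroup.map_injective N.subtype_injective ?_
    rw [h, ← MonoidHom.range_eq_map, Subgroup.range_subtype]
  refine ⟨N, hNn, ⟨fun X hX => ?_⟩, fun h => hNns ?_⟩
  · by_cases hX0 : X = ⊥
    · exact Or.inl hX0
    refine Or.inr (eq_top_iff.2 ?_)
    have hle := hMmin (j := X) ⟨hX, hX0⟩ (Subgroup.card_le_of_le (hMtop.symm ▸ le_top))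
    rw [hMtop] at hle
    exact (Subgroup.eq_of_le_of_card_ge le_top hle).ge
  · exact Group.isSolvable_of_comm fun a b => h.is_comm.comm a b

end Cfsg.Agent.Order175560
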