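import Cfsg.Agent.Lib.Order175560.SimpleTwo
import Cfsg.Agent.Lib.Order175560.SimpleParts
import Cfsg.Agent.Lib.EightSylow.Main
import Cfsg.Agent.Lib.EightSeven.Main
import Cfsg.Agent.Lib.SmallSimple.Order168
import Cfsg.Agent.Lib.J1Unique.Alt

/-!
# Simple groups of order 175560: an involution centraliser is `2 × A₅`

Not all centralisers are solvable, the solvable radical of a non-solvable one is generated by the
involution, the top is simple of order 60 or 660, and 660 makes an involution an odd permutation of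
the class of involutions.
-/

set_option autoImplicit false
set_option linter.style.haveILetI false
set_option linter.unusedSectionVars false

namespace Cfsg.Agent.Order175560

open Subgroup SmallSimple

theorem fixed_card_eq : ∀ c ∈ [4, 3, 5, 11], ∀ p ∈ [7, 11, 19], p ≠ c →
    ∀ k ∈ (c : ℕ).divisors, k % p = c % p → k = c := by decide +kernel

theorem prime_cases_21945 {p : ℕ} (hp : p.Prime) (h : p ∣ 21945) :
    p = 3 ∨ p = 5 ∨ p = 7 ∨ p = 11 ∨ p = 19 := by
  rw [show (21945 : ℕ) = 3 * 5 * 7 * 11 * 19 by norm_num, hp.dvd_mul, hp.dvd_mul, hp.dvd_mul, hp.dvd_mul,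
    Nat.prime_dvd_prime_iff_eq hp (by norm_num : Nat.Prime 3),
    Nat.prime_dvd_prime_iff_eq hp (by norm_num : Nat.Prime 5),
    Nat.prime_dvd_prime_iff_eq hp (by norm_num : Nat.Prime 7),
    Nat.prime_dvd_prime_iff_eq hp (by norm_num : Nat.Prime 11),
    Nat.prime_dvd_prime_iff_eq hp (by norm_num : Nat.Prime 19)] at h
  tauto

theorem prime_odd_cases {p : ℕ} (hp : p.Prime) (hp2 : p ≠ 2) (h : p ∣ 175560) :
    p = 3 ∨ p = 5 ∨ p = 7 ∨ p = 11 ∨ p = 19 :=
  prime_cases_21945 hp ((((Nat.coprime_primes hp Nat.prime_two).2 hp2).pow_right 3).dvd_of_dvd_mul_left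
    (show p ∣ 2 ^ 3 * 21945 by simpa using h))

section

variable {K : Type*} [Group K] [Finite K]

theorem even_card_sq_eq_one (h : 2 ∣ Nat.card K) : 2 ∣ Nat.card {q : K // q * q = 1} := by
  classical
  haveI := Fintype.ofFinite K
  haveI : Fact (Nat.Prime 2) := ⟨Nat.prime_two⟩
  let σ : Equiv.Perm K := Function.Involutive.toPerm (fun q => q⁻¹) inv_involutive
  have h2 : σ ^ 2 ^ 1 = 1 := by
    ext q
    simp [σ, pow_two]
  have hmod := Equiv.Perm.card_compl_support_modEq h2
  have e : σ.supportᶜ = Finset.univ.filter fun q : K => q * q = 1 := by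
    ext q
    rw [Finset.mem_compl, Equiv.Perm.notMem_support, Finset.mem_filter]
    simp only [σ, Function.Involutive.coe_toPerm, Finset.mem_univ, true_and]
    exact inv_eq_iff_mul_eq_one
  rw [e, ← Fintype.card_subtype, ← Nat.card_eq_fintype_card, ← Nat.card_eq_fintype_card] at hmod
  exact (Nat.ModEq.dvd_iff hmod dvd_rfl).2 h

/-- A central involution outside the derived subgroup of index two splits off. -/
theorem exists_prod_equiv {Q : Type*} [Group Q] [Finite Q] (π : K →* Q) (hπ : Function.Surjective π)
    {t : K} (ht : t * t = 1) (hker : ∀ k, π k = 1 → k = 1 ∨ k = t)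
    (hQ : _root_.commutator Q = ⊤) (htL : t ∉ _root_.commutator K) (hK : Nat.card K = 2 * Nat.card Q) :
    Nonempty (K ≃* Multiplicative (ZMod 2) × Q) := by
  set L := _root_.commutator K with hL
  have hLK : Function.Bijective (π.comp L.subtype) := by
    refine ⟨(injective_iff_map_eq_one _).2 fun l hl => ?_, fun q => ?_⟩
    · rcases hker _ hl with h | h
      · exact Subtype.ext h
      · exact absurd (h ▸ l.2) htL
    · have : q ∈ L.map π := by
        rw [hL, _root_.commutator_def, map_commutator, map_top_of_surjective π hπ, ← _root_.commutator_def, hQ]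
        exact mem_top q
      obtain ⟨l, hl, rfl⟩ := this
      exact ⟨⟨l, hl⟩, rfl⟩
  have hLc : Nat.card L = Nat.card Q := Nat.card_eq_of_bijective _ hLK
  have hidx : L.index = 2 := by
    have h := L.card_mul_index
    rw [hLc, hK, mul_comm] at h
    exact Nat.eq_of_mul_eq_mul_right Nat.card_pos h
  haveI : Fact (Nat.Prime 2) := ⟨Nat.prime_two⟩
  let e₂ : (K ⧸ L) ≃* Multiplicative (ZMod 2) :=
    mulEquivOfPrimeCardEq (p := 2) hidx (by simp)
  let χ : K →* Multiplicative (ZMod 2) := e₂.toMonoidHom.comp (QuotientGroup.mk' L)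
  refine ⟨MulEquiv.ofBijective (χ.prod π) ((Nat.bijective_iff_injective_and_card _).2
    ⟨(injective_iff_map_eq_one _).2 fun k hk => ?_, ?_⟩)⟩
  · obtain ⟨h1, h2⟩ := Prod.ext_iff.1 hk
    have hkL : k ∈ L := by
      have h1' : e₂ (QuotientGroup.mk' L k) = 1 := h1
      rw [MulEquiv.map_eq_one_iff, QuotientGroup.mk'_apply, QuotientGroup.eq_one_iff] at h1'
      exact h1'
    exact (hker k h2).resolve_right fun h => htL (h ▸ hkL)
  · rw [Nat.card_prod, hK]
    simp

end

universe u

variable {G : Type u} [Group G] [Finite G] [IsSimpleGroup G]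

theorem not_hundred_twenty_dvd (hG : ¬ IsMulCommutative G) (hn : Nat.card G = 175560) {p : ℕ}
    [Fact p.Prime] (hp : p = 7 ∨ p = 11 ∨ p = 19) (P : Sylow p G) : ¬ 120 ∣ cCard P := by
  rcases hp with rfl | rfl | rfl
  · obtain ⟨w, c, -, -, hc, hd⟩ := local_check hG 120 209 (by rw [hn]) (by norm_num)
      (fun _ c => ¬ 120 ∣ c) (by decide +kernel) P
    exact fun h => hd (Nat.Coprime.dvd_of_dvd_mul_left (by norm_num) (hc ▸ h))
  · obtain ⟨w, c, -, -, hc, hd⟩ := local_check hG 120 133 (by rw [hn]) (by norm_num)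
      (fun _ c => ¬ 120 ∣ c) (by decide +kernel) P
    exact fun h => hd (Nat.Coprime.dvd_of_dvd_mul_left (by norm_num) (hc ▸ h))
  · obtain ⟨w, c, -, -, hc, hd⟩ := local_check hG 120 77 (by rw [hn]) (by norm_num)
      (fun _ c => ¬ 120 ∣ c) (by decide +kernel) P
    exact fun h => hd (Nat.Coprime.dvd_of_dvd_mul_left (by norm_num) (hc ▸ h))

theorem card_sylow_two (hn : Nat.card G = 175560) (S : Sylow 2 G) [Fact (Nat.Prime 2)] :
    Nat.card (S : Subgroup G) = 8 :=
  card_sylow_subgroup (p := 2) (k := 3) (m := 21945) (by rw [hn]; norm_num) (by norm_num) S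

theorem elementary_sylow (hG : ¬ IsMulCommutative G) (hn : Nat.card G = 175560) (S : Sylow 2 G) :
    Cfsg.IsElementaryAbelian 2 (S : Subgroup G) := by
  have hsq := sylow_two_sq hG hn S
  have hinv : ∀ a ∈ (S : Subgroup G), a⁻¹ = a := fun a ha => inv_eq_of_mul_eq_one_right (hsq a ha)
  refine ⟨isMulCommutative_iff.2 fun a b => Subtype.ext ?_, fun a ha => ?_⟩
  · show (a : G) * b = b * a
    have := hinv _ (mul_mem a.2 b.2)
    rw [mul_inv_rev, hinv _ a.2, hinv _ b.2] at this
    exact this.symm
  · rw [pow_two]; exact hsq a ha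

theorem exists_nonsolvable (hG : ¬ IsMulCommutative G) (hn : Nat.card G = 175560) :
    ∃ t : G, orderOf t = 2 ∧ ¬ Group.IsSolvable ↥(centralizer ({t} : Set G)) := by
  by_contra hcon
  push Not at hcon
  haveI : Fact (Nat.Prime 2) := ⟨Nat.prime_two⟩
  obtain ⟨S⟩ : Nonempty (Sylow 2 G) := inferInstance
  have h8 := card_sylow_two hn S
  have hS := elementary_sylow hG hn S
  have h7 := EightSylow.relIndex_eq_seven hG S hS h8 hcon
  exact EightSeven.false_of_not_nine
    (show EightSeven.Hyp S from ⟨inferInstance, hG, hS, h8, h7⟩) (by rw [hn]; norm_num)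

/-- The radical of a non-solvable involution centraliser is `⟨t⟩` and the quotient is simple. -/
theorem exists_simple_quotient (hG : ¬ IsMulCommutative G) (hn : Nat.card G = 175560) {t : G}
    (ht : orderOf t = 2) (hns : ¬ Group.IsSolvable ↥(centralizer ({t} : Set G))) :
    ∃ (Q : Type u) (_ : Group Q) (_ : Finite Q) (_ : IsSimpleGroup Q),
      ¬ IsMulCommutative Q ∧ (Nat.card Q = 60 ∨ Nat.card Q = 660) ∧
      Nonempty (↥(centralizer ({t} : Set G)) ≃* Multiplicative (ZMod 2) × Q) := by
  classical
  haveI : Fact (Nat.Prime 2) := ⟨Nat.prime_two⟩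
  set C := centralizer ({t} : Set G) with hC
  have htC : t ∈ C := mem_centralizer_singleton_iff.2 rfl
  set T : C := ⟨t, htC⟩ with hT
  have hTo : orderOf T = 2 := by rw [← orderOf_coe]; exact ht
  have hTc : ∀ k : C, T * k = k * T := fun k =>
    Subtype.ext (mem_centralizer_singleton_iff.1 k.2).symm
  obtain ⟨R, hRn, hRs, hRmax⟩ := exists_radical C
  haveI := hRn
  have hTR : T ∈ R := by
    refine hRmax (zpowers T) ⟨fun v hv k => ?_⟩ ?_ (mem_zpowers T)
    · obtain ⟨i, rfl⟩ := mem_zpowers_iff.1 hv
      rw [← (Commute.zpow_left (show Commute T k from hTc k) i).eq, mul_inv_cancel_right]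
      exact zpow_mem (mem_zpowers T) i
    · exact Group.isSolvable_of_comm fun a b => mul_comm' a b
  set π := QuotientGroup.mk' R with hπdef
  have hπ : Function.Surjective π := QuotientGroup.mk'_surjective R
  have hcardK : Nat.card C = Nat.card (C ⧸ R) * Nat.card R := card_eq_card_quotient_mul_card_subgroup R
  have hKG : Nat.card C ∣ 175560 := hn ▸ card_subgroup_dvd_card C
  have h2R : 2 ∣ Nat.card R := hTo ▸ Subgroup.orderOf_dvd_natCard R hTR
  have hQd : Nat.card (C ⧸ R) ∣ 87780 := by
    obtain ⟨r, hr⟩ := h2R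
    refine Nat.dvd_of_mul_dvd_mul_left (show 0 < 2 by norm_num) (show 2 * Nat.card (C ⧸ R) ∣ 2 * 87780 from ?_)
    refine Dvd.dvd.trans ⟨r, ?_⟩ hKG
    rw [hcardK, hr]; ring
  haveI : Group.IsSolvable R := hRs
  haveI : Nontrivial (C ⧸ R) := by
    by_contra hnt
    rw [not_nontrivial_iff_subsingleton] at hnt
    refine hns (Group.isSolvable_of_ker_le_range R.subtype π ?_)
    rw [hπdef, QuotientGroup.ker_mk', range_subtype]
  have hrad : ∀ X : Subgroup (C ⧸ R), X.Normal → Group.IsSolvable X → X = ⊥ := by
    intro X hX hXs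
    haveI := hX
    haveI := hXs
    have hs : Group.IsSolvable ↥(X.comap π) := by
      refine Group.isSolvable_of_ker_le_range (G' := R)
        (Subgroup.inclusion (show R ≤ X.comap π from fun r hr => by
          rw [mem_comap, hπdef, QuotientGroup.mk'_apply, (QuotientGroup.eq_one_iff r).2 hr]
          exact one_mem X))
        ((π.comp (X.comap π).subtype).codRestrict X fun v => v.2) ?_
      rintro ⟨v, hv⟩ hv1
      have h1 : π v = 1 := congrArg Subtype.val hv1
      rw [hπdef, QuotientGroup.mk'_apply, QuotientGroup.eq_one_iff] at h1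
      exact ⟨⟨v, h1⟩, rfl⟩
    have hle := hRmax (X.comap π) (hX.comap π) hs
    rw [eq_bot_iff]
    intro q hq
    obtain ⟨k, rfl⟩ := hπ q
    rw [mem_bot, hπdef, QuotientGroup.mk'_apply, QuotientGroup.eq_one_iff]
    exact hle hq
  obtain ⟨N, hNn, hNs, hNa⟩ := exists_simple_normal hQd hrad
  haveI := hNn
  haveI := hNs
  have hd : Nat.card N = 60 ∨ Nat.card N = 660 :=
    simple_order hNa ((card_subgroup_dvd_card N).trans hQd)
  have hdR : Nat.card N * Nat.card R ∣ 175560 :=
    (mul_dvd_mul_right (card_subgroup_dvd_card N) _).trans (hcardK ▸ hKG)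
  have hNcomm : N ≤ _root_.commutator (C ⧸ R) := by
    have h := EightSylow.commutator_eq_top (G := N) hNa
    have h2 := map_subtype_commutator N
    rw [h, ← MonoidHom.range_eq_map, range_subtype] at h2
    rw [h2, _root_.commutator_def]
    exact commutator_mono le_top le_top
  -- the radical has no odd prime divisor
  have hRodd : ∀ p : ℕ, p.Prime → p ∣ Nat.card R → p = 2 := by
    intro p hp hpR
    by_contra hp2
    haveI := Fact.mk hp
    have hp5 := prime_odd_cases hp hp2 ((hpR.trans (dvd_mul_left _ _)).trans hdR)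
    have hpd : ¬ p ∣ Nat.card N := fun h => by
      have := (mul_dvd_mul h hpR).trans hdR
      rcases hp5 with rfl | rfl | rfl | rfl | rfl <;> norm_num at this
    have hp7 : p = 7 ∨ p = 11 ∨ p = 19 := by
      rcases hp5 with rfl | rfl | rfl | rfl | rfl
      · rcases hd with h | h <;> rw [h] at hpd <;> norm_num at hpd
      · rcases hd with h | h <;> rw [h] at hpd <;> norm_num at hpd
      all_goals tauto
    obtain ⟨P⟩ : Nonempty (Sylow p R) := inferInstance
    set A := (P : Subgroup R).map R.subtype with hA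
    have hAc : Nat.card A = p := by
      rw [hA, Subgroup.card_map_of_injective R.subtype_injective]
      obtain ⟨k, hk⟩ := IsPGroup.iff_card.1 P.isPGroup'
      rw [hk]
      have hk1 : 1 ≤ k := by
        rcases Nat.eq_zero_or_pos k with h0 | h0
        · exfalso
          refine P.not_dvd_index ?_
          have := (P : Subgroup R).card_mul_index
          rw [hk, h0, pow_zero, one_mul] at this
          exact this ▸ hpR
        · exact h0
      have hk2 : k < 2 := by
        by_contra hk2
        have h : p ^ 2 ∣ 175560 := ((pow_dvd_pow p (by omega : 2 ≤ k)).trans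
          ((hk ▸ card_subgroup_dvd_card (P : Subgroup R)).trans (dvd_mul_left _ _))).trans hdR
        rcases hp5 with rfl | rfl | rfl | rfl | rfl <;> norm_num at h
      rw [show k = 1 by omega, pow_one]
    haveI : IsCyclic A := isCyclic_of_prime_card hAc
    have hfrat : normalizer (A : Set C) ⊔ R = ⊤ := Sylow.normalizer_sup_eq_top P
    let f : normalizer (A : Set C) →* C ⧸ R := π.comp (normalizer (A : Set C)).subtype
    have hf : Function.Surjective f := by
      intro q
      obtain ⟨k, rfl⟩ := hπ q
      obtain ⟨a, ha, r, hr, hk⟩ := mem_sup_of_normal_right.1 (hfrat.symm ▸ mem_top k : k ∈ normalizer (A : Set C) ⊔ R)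
      refine ⟨⟨a, ha⟩, ?_⟩
      show π a = π k
      rw [← hk, map_mul, show π r = 1 from (QuotientGroup.eq_one_iff r).2 hr, mul_one]
    set Z := centralizer (A : Set C) with hZ
    have hNZ : N ≤ Z.map π := by
      refine hNcomm.trans ?_
      have h1 : _root_.commutator (normalizer (A : Set C)) ≤ A.normalizerMonoidHom.ker := by
        rw [_root_.commutator_def, commutator_le]
        intro a _ b _
        have hcomm : ∀ u v : MulAut A, u * v = v * u := fun u v => by
          apply (IsCyclic.mulAutMulEquiv A).injective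
          rw [map_mul, map_mul, mul_comm]
        rw [MonoidHom.mem_ker, map_commutatorElement, commutatorElement_eq_one_iff_mul_comm]
        exact hcomm _ _
      rw [_root_.commutator_def, ← map_top_of_surjective f hf, ← map_commutator, ← _root_.commutator_def]
      rintro _ ⟨a, ha, rfl⟩
      exact ⟨a, normalizer_hom_eq_one (MonoidHom.mem_ker.1 (h1 ha)), rfl⟩
    have hZcard : 2 * Nat.card N ∣ Nat.card Z := by
      let g : Z →* C ⧸ R := π.comp Z.subtype
      have hrange : g.range = Z.map π := by
        show (π.comp Z.subtype).range = _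
        rw [MonoidHom.range_comp, range_subtype]
      have h := g.ker.card_mul_index
      rw [Subgroup.index_ker, hrange] at h
      rw [← h]
      have hTZ : T ∈ Z := mem_centralizer_iff.2 fun a _ => (hTc a).symm
      have hTk : (⟨T, hTZ⟩ : Z) ∈ g.ker := (QuotientGroup.eq_one_iff T).2 hTR
      refine mul_dvd_mul ?_ (card_dvd_of_le hNZ)
      have := Subgroup.orderOf_dvd_natCard _ hTk
      rwa [← orderOf_coe, hTo] at this
    have hAG : Nat.card (A.map C.subtype) = p := by
      rw [Subgroup.card_map_of_injective C.subtype_injective, hAc]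
    obtain ⟨PG, hPG⟩ := (IsPGroup.of_card (n := 1) (G := A.map C.subtype)
      (by rw [hAG, pow_one])).exists_le_sylow
    have hPGc : Nat.card (PG : Subgroup G) = p := by
      obtain ⟨k, hk⟩ := IsPGroup.iff_card.1 PG.isPGroup'
      have hd1 := hn ▸ card_subgroup_dvd_card (PG : Subgroup G)
      rw [hk] at hd1 ⊢
      have hk1 : p ∣ p ^ k := (hAG.symm.dvd.trans (card_dvd_of_le hPG)).trans hk.dvd
      have : k < 2 := by
        by_contra hk2
        have h := (pow_dvd_pow p (by omega : 2 ≤ k)).trans hd1
        rcases hp5 with rfl | rfl | rfl | rfl | rfl <;> norm_num at h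
      interval_cases k
      · rw [pow_zero, Nat.dvd_one] at hk1
        exact absurd hk1 hp.ne_one
      · exact pow_one p
    have hPGe : A.map C.subtype = (PG : Subgroup G) :=
      eq_of_le_of_card_ge hPG (by rw [hPGc, hAG])
    refine not_hundred_twenty_dvd hG hn hp7 PG ?_
    have hle : Z.map C.subtype ≤ centralizer ((PG : Subgroup G) : Set G) := by
      rintro _ ⟨z, hz, rfl⟩
      rw [mem_centralizer_iff]
      intro a ha
      rw [← hPGe] at ha
      obtain ⟨a, ha, rfl⟩ := ha
      exact congrArg Subtype.val (mem_centralizer_iff.1 hz a ha)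
    have h := card_dvd_of_le hle
    rw [Subgroup.card_map_of_injective C.subtype_injective] at h
    refine Dvd.dvd.trans ?_ (hZcard.trans h)
    rcases hd with h | h <;> rw [h] <;> norm_num
  have hR2 : Nat.card R = 2 := by
    obtain ⟨k, hk⟩ : ∃ k, Nat.card R = 2 ^ k := by
      refine ⟨_, Nat.eq_prime_pow_of_unique_prime_dvd Nat.card_pos.ne' fun {q} hq hqd => hRodd q hq hqd⟩
    have h4N : 4 ∣ Nat.card N := by rcases hd with h | h <;> rw [h] <;> norm_num
    have hk' : 4 * 2 ^ k ∣ 175560 := hk ▸ (mul_dvd_mul_right h4N _).trans hdR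
    have hk0 : 2 ∣ 2 ^ k := hk ▸ h2R
    rw [hk]
    have hk2 : k < 2 := by
      by_contra hk2
      have := (mul_dvd_mul_left 4 (pow_dvd_pow 2 (by omega : 2 ≤ k))).trans hk'
      norm_num at this
    interval_cases k
    · norm_num at hk0
    · norm_num
  have hker : ∀ k : C, π k = 1 → k = 1 ∨ k = T := by
    intro k hk
    rw [hπdef, QuotientGroup.mk'_apply, QuotientGroup.eq_one_iff] at hk
    have hTne : (⟨T, hTR⟩ : R) ≠ 1 := fun e => by
      have e' : T = 1 := congrArg Subtype.val e
      rw [e', orderOf_one] at hTo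
      norm_num at hTo
    obtain ⟨y, -, hy⟩ := (Nat.card_eq_two_iff' (1 : R)).1 hR2
    by_cases h1 : k = 1
    · exact Or.inl h1
    · exact Or.inr (congrArg Subtype.val ((hy ⟨k, hk⟩ fun e => h1 (congrArg Subtype.val e)).trans
        (hy _ hTne).symm))
  -- the quotient is simple
  have hNtop : N = ⊤ := by
    by_contra hne
    have hidx : N.index ≠ 1 := fun h => hne (index_eq_one.1 h)
    obtain ⟨p, hp, hpi⟩ := Nat.exists_prime_and_dvd hidx
    haveI := Fact.mk hp
    have hmul := N.card_mul_index
    have hdi : Nat.card N * N.index ∣ 87780 := hmul ▸ hQd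
    have hi : N.index ∣ 1463 := by
      rcases hd with h | h <;> rw [h] at hdi
      · exact Nat.dvd_of_mul_dvd_mul_left (show 0 < 60 by norm_num) (show 60 * N.index ∣ 60 * 1463 from hdi)
      · exact (Nat.dvd_of_mul_dvd_mul_left (show 0 < 660 by norm_num)
          (show 660 * N.index ∣ 660 * 133 from hdi)).trans (by norm_num)
    have hp' : p = 7 ∨ p = 11 ∨ p = 19 := by
      rcases prime_cases_21945 hp ((hpi.trans hi).trans (by norm_num)) with rfl | rfl | rfl | rfl | rfl
      · exact absurd (hpi.trans hi) (by norm_num)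
      · exact absurd (hpi.trans hi) (by norm_num)
      all_goals tauto
    have hpd : ¬ p ∣ Nat.card N := fun h => by
      have := (mul_dvd_mul h hpi).trans hdi
      rcases hp' with rfl | rfl | rfl <;> norm_num at this
    have hQp : ∀ P : Subgroup (C ⧸ R), IsPGroup p P → Nat.card P ∣ p := by
      intro P hP
      obtain ⟨k, hk⟩ := IsPGroup.iff_card.1 hP
      have h := (hk ▸ card_subgroup_dvd_card P).trans hQd
      rw [hk]
      have hk2 : k ≤ 1 := by
        by_contra hk2
        have := (pow_dvd_pow p (by omega : 2 ≤ k)).trans h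
        rcases hp' with rfl | rfl | rfl <;> norm_num at this
      exact (pow_dvd_pow p hk2).trans (by rw [pow_one])
    -- the centraliser of `N` is trivial
    have hCN : centralizer (N : Set (C ⧸ R)) = ⊥ := by
      haveI hnorm : (centralizer (N : Set (C ⧸ R))).Normal := by
        refine ⟨fun v hv q => mem_centralizer_iff.2 fun a ha => ?_⟩
        have h := mem_centralizer_iff.1 hv (q⁻¹ * a * q) (by
          simpa using hNn.conj_mem a ha q⁻¹)
        calc a * (q * v * q⁻¹) = q * ((q⁻¹ * a * q) * v) * q⁻¹ := by group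
          _ = q * (v * (q⁻¹ * a * q)) * q⁻¹ := by rw [h]
          _ = q * v * q⁻¹ * a := by group
      refine hrad _ hnorm ?_
      have hinf : N ⊓ centralizer (N : Set (C ⧸ R)) = ⊥ := by
        rw [eq_bot_iff]
        intro v hv
        obtain ⟨hvN, hvC⟩ := hv
        have hc : (⟨v, hvN⟩ : N) ∈ center N := mem_center_iff.2 fun a =>
          Subtype.ext (mem_centralizer_iff.1 hvC a a.2)
        rcases (inferInstance : (center N).Normal).eq_bot_or_eq_top with h | h
        · rw [h, mem_bot] at hc
          exact congrArg Subtype.val hc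
        · exact absurd (isMulCommutative_iff.2 fun a b => mem_center_iff.1 (h ▸ mem_top b) a) hNa
      have hdvd : Nat.card (centralizer (N : Set (C ⧸ R))) ∣ N.index := by
        have e : N.relIndex (centralizer (N : Set (C ⧸ R))) = Nat.card (centralizer (N : Set (C ⧸ R))) := by
          rw [← inf_relIndex_right, hinf, relIndex_bot_left]
        exact e ▸ relIndex_dvd_index_of_normal N _
      haveI := IsZGroup.of_squarefree (G := centralizer (N : Set (C ⧸ R)))
        (squarefree_43890.squarefree_of_dvd ((hdvd.trans hi).trans (by norm_num)))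
      infer_instance
    obtain ⟨x, hx⟩ := exists_prime_orderOf_dvd_card' (G := C ⧸ R) p (hpi.trans N.index_dvd_card)
    have key : ∀ (q e : ℕ), q.Prime → q ^ e ∈ [4, 3, 5, 11] → q ^ e ∣ Nat.card N →
        ¬ q ^ (e + 1) ∣ Nat.card N → q ^ e ∣ Nat.card (N ⊓ centralizer ({x} : Set (C ⧸ R)) : Subgroup (C ⧸ R)) := by
      intro q e hq hmem hdvd hndvd
      haveI := Fact.mk hq
      obtain ⟨Sq⟩ : Nonempty (Sylow q N) := inferInstance
      set A := (Sq : Subgroup N).map N.subtype with hA
      have hAc : Nat.card A = q ^ e := by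
        rw [hA, Subgroup.card_map_of_injective N.subtype_injective, Sq.card_eq_multiplicity]
        congr 1
        refine le_antisymm ?_ ((hq.pow_dvd_iff_le_factorization Nat.card_pos.ne').1 hdvd)
        by_contra hlt
        exact hndvd ((hq.pow_dvd_iff_le_factorization Nat.card_pos.ne').2 (by omega))
      have hfrat : normalizer (A : Set (C ⧸ R)) ⊔ N = ⊤ := Sylow.normalizer_sup_eq_top Sq
      have hpn : p ∣ Nat.card (normalizer (A : Set (C ⧸ R))) := by
        refine hpi.trans ?_
        rw [← relIndex_top_right N, ← hfrat, relIndex_sup_right]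
        exact Subgroup.index_dvd_card _
      obtain ⟨⟨y, hy⟩, hyo⟩ := exists_prime_orderOf_dvd_card' p hpn
      rw [Subgroup.orderOf_mk] at hyo
      -- `y` centralises `A`
      set a : MulAut A := A.normalizerMonoidHom ⟨y, hy⟩ with ha
      let F : Subgroup A := a.toMonoidHom.eqLocus (MonoidHom.id A)
      have hAp : IsPGroup p (zpowers a) := by
        have hd' : orderOf a ∣ p := by
          have := orderOf_map_dvd A.normalizerMonoidHom (⟨y, hy⟩ : normalizer (A : Set (C ⧸ R)))
          rwa [Subgroup.orderOf_mk, hyo] at this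
        obtain ⟨j, -, hj⟩ := (Nat.dvd_prime_pow hp).1 (show orderOf a ∣ p ^ 1 by rwa [pow_one])
        exact IsPGroup.of_card (n := j) (by rw [Nat.card_zpowers, hj])
      have hfix : Nat.card (MulAction.fixedPoints (zpowers a) A) = Nat.card F := by
        apply Nat.card_congr (Equiv.setCongr ?_)
        ext v
        constructor
        · intro hv
          exact hv ⟨a, mem_zpowers _⟩
        · intro hv b
          exact (zpowers_le.2 (show a ∈ MulAction.stabilizer (MulAut A) v from hv)) b.2
      have hmod := hAp.card_modEq_card_fixedPoints A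
      rw [hfix, hAc] at hmod
      have hFA : Nat.card F = q ^ e := by
        refine fixed_card_eq (q ^ e) hmem p (by simpa using hp') (fun h => hpd (h ▸ hdvd)) _
          (Nat.mem_divisors.2 ⟨hAc ▸ card_subgroup_dvd_card F, pow_ne_zero e hq.ne_zero⟩) ?_
        exact hmod.symm
      have hcent : y ∈ centralizer (A : Set (C ⧸ R)) := by
        have hF : F = ⊤ := Subgroup.eq_top_of_le_card F (by rw [hFA, hAc])
        refine normalizer_hom_eq_one (x := ⟨y, hy⟩) (MulEquiv.ext fun v => ?_)
        exact (show v ∈ F from hF ▸ mem_top v)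
      -- move `y` into `⟨x⟩`
      obtain ⟨Px, hPx⟩ := (IsPGroup.of_card (p := p) (n := 1) (G := zpowers x)
        (by rw [Nat.card_zpowers, hx, pow_one])).exists_le_sylow
      obtain ⟨Py, hPy⟩ := (IsPGroup.of_card (p := p) (n := 1) (G := zpowers y)
        (by rw [Nat.card_zpowers, hyo, pow_one])).exists_le_sylow
      obtain ⟨g, hg⟩ := MulAction.exists_smul_eq (C ⧸ R) Py Px
      have hPxe : zpowers x = (Px : Subgroup (C ⧸ R)) := eq_of_le_of_card_ge hPx (by
        rw [Nat.card_zpowers, hx]; exact Nat.le_of_dvd hp.pos (hQp _ Px.isPGroup'))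
      have hy1 : y ≠ 1 := fun h => by rw [h, orderOf_one] at hyo; exact hp.one_lt.ne hyo
      have hgy : g * y * g⁻¹ ∈ zpowers x := by
        rw [hPxe, ← hg, Sylow.coe_subgroup_smul, mem_pointwise_smul_iff_inv_smul_mem]
        simpa [MulAut.smul_def, mul_assoc] using hPy (mem_zpowers y)
      have hxy : x ∈ zpowers (g * y * g⁻¹) := by
        have e : zpowers (g * y * g⁻¹) = zpowers x := eq_of_le_of_card_ge (zpowers_le.2 hgy) (by
          rw [Nat.card_zpowers, Nat.card_zpowers, hx, ← MulAut.conj_apply, MulEquiv.orderOf_eq, hyo])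
        exact e ▸ mem_zpowers x
      have hle : A.map (MulAut.conj g).toMonoidHom ≤ N ⊓ centralizer ({x} : Set (C ⧸ R)) := by
        rintro _ ⟨v, hv, rfl⟩
        refine ⟨hNn.conj_mem v ((map_subtype_le _) hv) g, ?_⟩
        refine mem_centralizer_singleton_iff.2 ?_
        obtain ⟨i, hi⟩ := mem_zpowers_iff.1 hxy
        have hc : Commute v y := mem_centralizer_iff.1 hcent v hv
        have h2 := (hc.map (MulAut.conj g).toMonoidHom).zpow_right i
        rw [← hi]
        exact h2.eq
      have hfin := card_dvd_of_le hle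
      rwa [Subgroup.card_map_of_injective (MulAut.conj g).injective, hAc] at hfin
    have hall : N ≤ centralizer ({x} : Set (C ⧸ R)) := by
      set M := N ⊓ centralizer ({x} : Set (C ⧸ R)) with hM
      have h4 : 4 ∣ Nat.card M := key 2 2 Nat.prime_two (by simp)
        (by rcases hd with h | h <;> rw [h] <;> norm_num) (by rcases hd with h | h <;> rw [h] <;> norm_num)
      have h3 : 3 ∣ Nat.card M := key 3 1 Nat.prime_three (by simp)
        (by rcases hd with h | h <;> rw [h] <;> norm_num) (by rcases hd with h | h <;> rw [h] <;> norm_num)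
      have h5 : 5 ∣ Nat.card M := key 5 1 (by norm_num) (by simp)
        (by rcases hd with h | h <;> rw [h] <;> norm_num) (by rcases hd with h | h <;> rw [h] <;> norm_num)
      have h60 : 60 ∣ Nat.card M :=
        Nat.Coprime.mul_dvd_of_dvd_of_dvd (m := 12) (n := 5) (by norm_num)
          (Nat.Coprime.mul_dvd_of_dvd_of_dvd (m := 4) (n := 3) (by norm_num) h4 h3) h5
      have hdM : Nat.card N ∣ Nat.card M := by
        rcases hd with h | h
        · rw [h]; exact h60
        · have h11 : 11 ∣ Nat.card M := key 11 1 (by norm_num) (by simp) (by rw [h]; norm_num)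
            (by rw [h]; norm_num)
          rw [h]
          exact Nat.Coprime.mul_dvd_of_dvd_of_dvd (m := 60) (n := 11) (by norm_num) h60 h11
      exact (eq_of_le_of_card_ge (inf_le_left : M ≤ N) (Nat.le_of_dvd Nat.card_pos hdM)).ge.trans
        inf_le_right
    have hx1 : x ∈ centralizer (N : Set (C ⧸ R)) := mem_centralizer_iff.2 fun a ha =>
      mem_centralizer_singleton_iff.1 (hall ha)
    rw [hCN, mem_bot] at hx1
    rw [hx1, orderOf_one] at hx
    exact hp.one_lt.ne hx
  let eT : N ≃* (C ⧸ R) := (MulEquiv.subgroupCongr hNtop).trans topEquiv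
  haveI : IsSimpleGroup (C ⧸ R) := IsSimpleGroup.isSimpleGroup_of_surjective eT.toMonoidHom eT.surjective
  have hQna : ¬ IsMulCommutative (C ⧸ R) := fun h => hNa (isMulCommutative_iff.2 fun a b =>
    eT.injective (by rw [map_mul, map_mul]; exact h.is_comm.comm _ _))
  have hQc : Nat.card (C ⧸ R) = Nat.card N := (Nat.card_congr eT.toEquiv).symm
  refine ⟨C ⧸ R, inferInstance, inferInstance, inferInstance, hQna, hQc ▸ hd, ?_⟩
  refine exists_prod_equiv π hπ (t := T) (by rw [← pow_two, ← hTo, pow_orderOf_eq_one]) hker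
    (EightSylow.commutator_eq_top hQna) ?_ (by rw [hcardK, hR2, mul_comm])
  -- transfer to a Sylow 2-subgroup of the centraliser
  obtain ⟨SC⟩ : Nonempty (Sylow 2 C) := inferInstance
  obtain ⟨S, hS⟩ := ((SC.isPGroup').map C.subtype).exists_le_sylow
  have hab := (elementary_sylow hG hn S).1
  letI : CommGroup (SC : Subgroup C) :=
    { mul_comm := fun a b => by
        have h := congrArg Subtype.val (hab.is_comm.comm
          (⟨((a : C) : G), hS ⟨(a : C), a.2, rfl⟩⟩ : (S : Subgroup G))
          ⟨((b : C) : G), hS ⟨(b : C), b.2, rfl⟩⟩)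
        exact Subtype.ext (Subtype.ext h) }
  let φ : C →* (SC : Subgroup C) := MonoidHom.transfer (MonoidHom.id (SC : Subgroup C))
  intro hTL
  have h1 : φ T = 1 := MonoidHom.mem_ker.1 (Abelianization.commutator_subset_ker φ hTL)
  have hkey : ∀ (k : ℕ) (g₀ : C), g₀⁻¹ * T ^ k * g₀ ∈ (SC : Subgroup C) → g₀⁻¹ * T ^ k * g₀ = T ^ k :=
    fun k g₀ _ => by rw [mul_assoc, (Commute.pow_left (show Commute T g₀ from hTc g₀) k).eq, inv_mul_cancel_left]
  have h2 : φ T = ⟨T ^ (SC : Subgroup C).index, MonoidHom.transfer_eq_pow_aux T hkey⟩ :=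
    MonoidHom.transfer_eq_pow (MonoidHom.id _) T hkey
  rw [h1] at h2
  have h3 : T ^ (SC : Subgroup C).index = 1 := (congrArg Subtype.val h2).symm
  exact SC.not_dvd_index (hTo.symm.dvd.trans (orderOf_dvd_of_pow_eq_one h3))

/-- A simple group of order 175560 has an involution with centraliser `2 × A₅`. -/
theorem exists_centraliser (hG : ¬ IsMulCommutative G) (hn : Nat.card G = 175560) :
    ∃ t : G, orderOf t = 2 ∧ Nonempty (↥(centralizer ({t} : Set G)) ≃* J1Unique.P5) := by
  classical
  obtain ⟨t, ht, hns⟩ := exists_nonsolvable hG hn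
  obtain ⟨Q, _, _, _, hQ, hd, ⟨e⟩⟩ := exists_simple_quotient hG hn ht hns
  rcases hd with h60 | h660
  · obtain ⟨e5⟩ := iso_alternating_five hQ h60
    exact ⟨t, ht, ⟨e.trans (MulEquiv.prodCongr (MulEquiv.refl _) e5)⟩⟩
  exfalso
  haveI : Fact (Nat.Prime 2) := ⟨Nat.prime_two⟩
  haveI := Fintype.ofFinite G
  obtain ⟨S⟩ : Nonempty (Sylow 2 G) := inferInstance
  have hone : ∀ u v : G, orderOf u = 2 → orderOf v = 2 → IsConj u v := fun u v hu hv =>
    EightSylow.isConj_involution S (elementary_sylow hG hn S) (card_sylow_two hn S)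
      (EightSylow.commutator_eq_top hG) hu hv
  have ho : ∀ g v : G, orderOf (g * v * g⁻¹) = orderOf v := fun g v => by
    rw [← MulAut.conj_apply, MulEquiv.orderOf_eq]
  let X := {v : G // orderOf v = 2}
  have hX : Nat.card X = 133 := by
    have h1 : Nat.card {v : G // IsConj t v} = Nat.card X :=
      Nat.card_congr (Equiv.subtypeEquivRight fun v => ⟨fun h => by
        obtain ⟨g, rfl⟩ := isConj_iff.1 h
        rw [ho, ht], fun h => hone t v ht h⟩)
    have h2 := SmallSimple.card_class_mul_card_centralizer t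
    rw [h1, Nat.card_congr e.toEquiv, Nat.card_prod, h660, hn] at h2
    rw [show Nat.card (Multiplicative (ZMod 2)) = 2 by simp] at h2
    omega
  let conjX : G →* Equiv.Perm X :=
    { toFun := fun g => (MulAut.conj g).toEquiv.subtypeEquiv fun v => by
        show orderOf v = 2 ↔ orderOf (g * v * g⁻¹) = 2
        rw [ho]
      map_one' := by ext v; simp
      map_mul' := fun g h => by ext v; simp [mul_assoc] }
  have ht2 : t * t = 1 := by rw [← pow_two, ← ht, pow_orderOf_eq_one]
  set σ := conjX t with hσ
  have hσ2 : σ * σ = 1 := by rw [hσ, ← map_mul, ht2, map_one]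
  have hfix : Fintype.card X - σ.support.card = Nat.card {v : X // Commute t v.1} := by
    rw [← Finset.card_compl, Nat.card_eq_fintype_card, Fintype.card_subtype]
    congr 1
    ext v
    rw [Finset.mem_compl, Equiv.Perm.notMem_support, Finset.mem_filter]
    simp only [Finset.mem_univ, true_and]
    constructor
    · intro h
      exact mul_inv_eq_iff_eq_mul.1 (congrArg Subtype.val h)
    · intro h
      exact Subtype.ext (mul_inv_eq_iff_eq_mul.2 h)
  have hcount : ∃ j, Nat.card {v : X // Commute t v.1} + 1 = 4 * j := by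
    obtain ⟨j, hj⟩ := even_card_sq_eq_one (K := Q) (h660 ▸ by norm_num)
    refine ⟨j, ?_⟩
    let P := Multiplicative (ZMod 2) × Q
    have e1 : {v : X // Commute t v.1} ≃ {c : ↥(centralizer ({t} : Set G)) // orderOf c = 2} :=
      { toFun := fun v => ⟨⟨v.1.1, mem_centralizer_singleton_iff.2 v.2.symm.eq⟩, by
          rw [← orderOf_coe]; exact v.1.2⟩
        invFun := fun c => ⟨⟨(c.1 : G), by rw [orderOf_coe]; exact c.2⟩,
          (mem_centralizer_singleton_iff.1 c.1.2).symm⟩
        left_inv := fun v => rfl
        right_inv := fun c => rfl }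
    have e2 : {c : ↥(centralizer ({t} : Set G)) // orderOf c = 2} ≃ {p : P // orderOf p = 2} :=
      e.toEquiv.subtypeEquiv fun c => by
        show orderOf c = 2 ↔ orderOf (e c) = 2
        rw [MulEquiv.orderOf_eq]
    have e3 : Nat.card {p : P // p * p = 1} = Nat.card {p : P // orderOf p = 2} + 1 := by
      haveI := Fintype.ofFinite Q
      rw [Nat.card_eq_fintype_card, Nat.card_eq_fintype_card, Fintype.card_subtype, Fintype.card_subtype]
      rw [show (Finset.univ.filter fun p : P => p * p = 1) =
        insert 1 (Finset.univ.filter fun p : P => orderOf p = 2) from ?_,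
        Finset.card_insert_of_notMem (by simp)]
      ext p
      simp only [Finset.mem_insert, Finset.mem_filter, Finset.mem_univ, true_and]
      rw [← pow_two]
      constructor
      · intro h
        by_cases h1 : p = 1
        · exact Or.inl h1
        · exact Or.inr (orderOf_eq_prime h h1)
      · rintro (rfl | h)
        · exact one_pow 2
        · exact orderOf_dvd_iff_pow_eq_one.1 h.dvd
    have e4 : Nat.card {p : P // p * p = 1} = 2 * Nat.card {q : Q // q * q = 1} := by
      rw [Nat.card_congr ({ toFun := fun p => (p.1.1, (⟨p.1.2, congrArg Prod.snd p.2⟩ : {q : Q // q * q = 1}))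
                            invFun := fun r => ⟨(r.1, r.2.1), Prod.ext (J1Unique.fst_sq r.1) r.2.2⟩
                            left_inv := fun p => rfl
                            right_inv := fun r => rfl } :
          {p : P // p * p = 1} ≃ Multiplicative (ZMod 2) × {q : Q // q * q = 1}), Nat.card_prod]
      simp
    rw [Nat.card_congr (e1.trans e2), ← e3, e4, hj]
    ring
  obtain ⟨j, hj⟩ := hcount
  rw [Nat.card_eq_fintype_card] at hX
  have hle := σ.support.card_le_univ
  have hsign : Equiv.Perm.sign σ = -1 :=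
    sign_eq_neg_one_of_support σ hσ2 (k := 67 - 2 * j) (by omega) ⟨33 - j, by omega⟩
  let ψ : G →* ℤˣ := Equiv.Perm.sign.comp conjX
  rcases IsSimpleGroup.eq_bot_or_eq_top_of_normal ψ.ker inferInstance with h | h
  · have := Nat.card_le_card_of_injective ψ ((MonoidHom.ker_eq_bot_iff ψ).1 h)
    rw [hn, Nat.card_eq_fintype_card, Fintype.card_units_int] at this
    omega
  · have : ψ t = 1 := MonoidHom.mem_ker.1 (h ▸ mem_top t)
    change Equiv.Perm.sign σ = 1 at this
    rw [hsign] at this
    exact absurd this (by decide)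

end Cfsg.Agent.Order175560
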