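import Cfsg.Agent.Lib.Order175560.Tools

/-!
# Twenty Sylow subgroups of order nineteen and a normaliser of even order

An involution inverting a Sylow subgroup with one non-trivial orbit is an odd permutation.
-/

set_option autoImplicit false
set_option linter.style.haveILetI false
set_option linter.unusedSectionVars false

namespace Cfsg.Agent.Order175560

open Subgroup SmallSimple
open scoped Pointwise

variable {G : Type*} [Group G] [Finite G] [IsSimpleGroup G]

theorem sign_eq_neg_one_of_support {X : Type*} [Fintype X] [DecidableEq X] (σ : Equiv.Perm X)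
    (h2 : σ * σ = 1) {k : ℕ} (hsupp : σ.support.card = 2 * k) (hk : Odd k) :
    Equiv.Perm.sign σ = -1 := by
  haveI : Fact (Nat.Prime 2) := ⟨Nat.prime_two⟩
  have hσ : σ ≠ 1 := by
    rintro rfl
    rw [Equiv.Perm.support_one, Finset.card_empty] at hsupp
    obtain ⟨j, rfl⟩ := hk
    omega
  obtain ⟨j, hj⟩ := Equiv.Perm.cycleType_prime_order (σ := σ) (by
    rw [orderOf_eq_prime (by rw [pow_two]; exact h2) hσ]; exact Nat.prime_two)
  rw [orderOf_eq_prime (p := 2) (by rw [pow_two]; exact h2) hσ] at hj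
  have hjk : j + 1 = k := by
    have := σ.sum_cycleType
    rw [hj, hsupp, Multiset.sum_replicate, smul_eq_mul] at this
    omega
  rw [Equiv.Perm.sign_of_cycleType, hj, Multiset.sum_replicate, Multiset.card_replicate, smul_eq_mul,
    hjk]
  exact Odd.neg_one_pow (by
    obtain ⟨i, rfl⟩ := hk
    exact ⟨3 * i + 1, by ring⟩)

theorem false_of_twenty (hG : ¬ IsMulCommutative G) [Fact (Nat.Prime 19)] (P : Sylow 19 G)
    (hP : Nat.card (P : Subgroup G) = 19) (hn : Nat.card (Sylow 19 G) = 20)
    (hN : 2 ∣ nCard P) (hC : ¬ 2 ∣ cCard P) : False := by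
  classical
  haveI : Fintype (Sylow 19 G) := Fintype.ofFinite _
  haveI : Fintype (P : Subgroup G) := Fintype.ofFinite _
  obtain ⟨u, huN, hu2, -, huC⟩ := exists_involution_not_mem P hN hC
  have hinv : ∀ x ∈ (P : Subgroup G), u * x * u⁻¹ = x⁻¹ := fun x hx =>
    inverts_of_not_mem hP huN hu2 huC hx
  have huP : u • P = P := smul_sylow_eq_iff.2 huN
  obtain ⟨Q₀, hQ₀⟩ : ∃ Q : Sylow 19 G, Q ≠ P := by
    haveI : Nontrivial (Sylow 19 G) := Finite.one_lt_card_iff_nontrivial.1 (by omega)
    exact exists_ne P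
  have hfixP : ∀ a : (P : Subgroup G), (a : G) • P = P := fun a =>
    smul_sylow_eq_iff.2 (Subgroup.le_normalizer a.2)
  -- the non-trivial orbit
  let F : ↥(P : Subgroup G) → {Q : Sylow 19 G // Q ≠ P} := fun a =>
    ⟨(a : G) • Q₀, fun h => hQ₀ (smul_left_cancel (a : G) (h.trans (hfixP a).symm))⟩
  have hFinj : Function.Injective F := by
    intro a b h
    have h' : (a : G) • Q₀ = (b : G) • Q₀ := congrArg Subtype.val h
    have h1 := eq_one_of_smul_eq hP hQ₀ (mul_mem (inv_mem b.2) a.2)
      (show ((b : G)⁻¹ * a) • Q₀ = Q₀ by rw [mul_smul, h', inv_smul_smul])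
    exact Subtype.ext (inv_mul_eq_one.1 h1).symm
  have hFbij : Function.Bijective F := (Nat.bijective_iff_injective_and_card F).2 ⟨hFinj, by
    have := Nat.card_congr (Equiv.sumCompl (fun Q : Sylow 19 G => Q = P))
    rw [Nat.card_sum, hn, Nat.card_unique (α := {Q : Sylow 19 G // Q = P})] at this
    rw [hP]
    have e : Nat.card {Q : Sylow 19 G // Q ≠ P} = Nat.card {Q : Sylow 19 G // ¬ Q = P} := rfl
    omega⟩
  have hsurj : ∀ Q : Sylow 19 G, Q ≠ P → ∃ a : (P : Subgroup G), (a : G) • Q₀ = Q := fun Q hQ => by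
    obtain ⟨a, ha⟩ := hFbij.2 ⟨Q, hQ⟩
    exact ⟨a, congrArg Subtype.val ha⟩
  obtain ⟨a₀, ha₀⟩ := hsurj (u • Q₀) fun h => hQ₀ (smul_left_cancel u (h.trans huP.symm))
  have hfix : ∀ a : (P : Subgroup G), u • ((a : G) • Q₀) = (a : G) • Q₀ ↔ a ^ 2 = a₀ := by
    intro a
    have e : u • ((a : G) • Q₀) = (((a⁻¹ * a₀ : (P : Subgroup G)) : G)) • Q₀ := by
      rw [← mul_smul, show u * (a : G) = (u * a * u⁻¹) * u by group, hinv a a.2, mul_smul, ← ha₀,
        ← mul_smul, Subgroup.coe_mul, Subgroup.coe_inv]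
    rw [e]
    constructor
    · intro h
      have h1 : a⁻¹ * a₀ = a := hFinj (Subtype.ext h)
      rw [pow_two]
      exact (inv_mul_eq_iff_eq_mul.1 h1).symm
    · intro h
      rw [show a⁻¹ * a₀ = a by rw [← h, pow_two, inv_mul_cancel_left]]
  -- exactly one fixed point in that orbit
  let sq : (P : Subgroup G) ≃ (P : Subgroup G) :=
    powCoprime (G := (P : Subgroup G)) (n := 2) (by rw [hP]; norm_num)
  set σ : Equiv.Perm (Sylow 19 G) := MulAction.toPermHom G (Sylow 19 G) u with hσ
  have hσapp : ∀ Q, σ Q = u • Q := fun Q => rfl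
  have hcompl : σ.supportᶜ = {P, (sq.symm a₀ : G) • Q₀} := by
    ext Q
    rw [Finset.mem_compl, Equiv.Perm.notMem_support, hσapp, Finset.mem_insert, Finset.mem_singleton]
    constructor
    · intro hQ
      by_cases hQP : Q = P
      · exact Or.inl hQP
      · obtain ⟨a, rfl⟩ := hsurj Q hQP
        refine Or.inr ?_
        have : sq a = a₀ := (hfix a).1 hQ
        rw [← this, Equiv.symm_apply_apply]
    · rintro (rfl | rfl)
      · exact huP
      · exact (hfix _).2 (sq.apply_symm_apply a₀)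
  have hsupp : σ.support.card = 2 * 9 := by
    have h1 := Finset.card_compl σ.support
    rw [hcompl, Finset.card_pair, ← Nat.card_eq_fintype_card (α := Sylow 19 G), hn] at h1
    · omega
    · exact fun h => (F (sq.symm a₀)).2 h.symm
  have hsgn := mem_alternating_of_simple hG (MulAction.toPermHom G (Sylow 19 G)) u
  rw [Equiv.Perm.mem_alternatingGroup, ← hσ, sign_eq_neg_one_of_support σ (by
    rw [hσ, ← map_mul, hu2, map_one]) hsupp (by decide)] at hsgn
  exact absurd hsgn (by decide)

end Cfsg.Agent.Order175560
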