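import Cfsg.Agent.Lib.Order175560.NoSimple
import Cfsg.Agent.Lib.Coprime.Sylow
import Cfsg.Agent.Lib.SmallSimple.M11OrderTools

/-!
# Groups of order dividing 175560: normality of the Sylow 19-subgroup
-/

set_option autoImplicit false
set_option linter.style.haveILetI false
set_option linter.unusedSectionVars false

namespace Cfsg.Agent.Order175560

open Subgroup
open scoped Pointwise

universe u

theorem prime_pow_dvd_small {q k : ℕ} (hq : q.Prime) (h : q ^ k ∣ 9240) : q ^ k < 19 := by
  by_cases h2 : q = 2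
  · subst h2
    have hk : k ≤ 3 := by
      by_contra hc
      have := (Nat.pow_dvd_pow 2 (show 4 ≤ k by omega)).trans h
      norm_num at this
    calc 2 ^ k ≤ 2 ^ 3 := Nat.pow_le_pow_right (by norm_num) hk
      _ < 19 := by norm_num
  have hk : k ≤ 1 ∧ (k = 1 → q ≤ 11) := by
    have hd : q ^ k ∣ 1155 := by
      refine (Nat.Coprime.pow_left k ?_).dvd_of_dvd_mul_left (show q ^ k ∣ 8 * 1155 from h)
      exact ((Nat.coprime_primes hq Nat.prime_two).2 h2).pow_right 3
    rcases Nat.eq_zero_or_pos k with hk0 | hk0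
    · omega
    have hq1 : q ∣ 3 * 5 * 7 * 11 := (dvd_pow_self q hk0.ne').trans hd
    have hq' : q = 3 ∨ q = 5 ∨ q = 7 ∨ q = 11 := by
      rw [hq.dvd_mul, hq.dvd_mul, hq.dvd_mul, Nat.prime_dvd_prime_iff_eq hq (by norm_num : Nat.Prime 3),
        Nat.prime_dvd_prime_iff_eq hq (by norm_num : Nat.Prime 5),
        Nat.prime_dvd_prime_iff_eq hq (by norm_num : Nat.Prime 7),
        Nat.prime_dvd_prime_iff_eq hq (by norm_num : Nat.Prime 11), or_assoc, or_assoc] at hq1
      exact hq1
    refine ⟨?_, fun _ => by omega⟩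
    by_contra hc
    have := (Nat.pow_dvd_pow q (show 2 ≤ k by omega)).trans hd
    rcases hq' with rfl | rfl | rfl | rfl <;> norm_num at this
  rcases Nat.eq_zero_or_pos k with hk0 | hk0
  · rw [hk0, pow_zero]; norm_num
  · rw [show k = 1 by omega, pow_one]; have := hk.2 (by omega); omega

variable {G : Type u} [Group G] [Finite G]

theorem le_centralizer_of_normal [Fact (Nat.Prime 19)] (P : Subgroup G) (hP : Nat.card P ∣ 19)
    (N : Subgroup G) [N.Normal] (hN : Nat.card N ∣ 9240) :
    ∀ a ∈ P, ∀ b ∈ N, a * b = b * a := by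
  intro a ha
  have hcop : (Nat.card P).Coprime (Nat.card N) := by
    refine Nat.Coprime.coprime_dvd_left hP (Nat.Coprime.coprime_dvd_right hN ?_)
    norm_num
  haveI : Group.IsNilpotent P := by
    obtain ⟨i, -, hi⟩ :=
      (Nat.dvd_prime_pow (m := 1) (i := Nat.card P) (by norm_num : Nat.Prime 19)).1 (by simpa using hP)
    exact (IsPGroup.of_card (p := 19) (n := i) hi).isNilpotent
  have ha19 : a ^ 19 = 1 :=
    orderOf_dvd_iff_pow_eq_one.1 ((Subgroup.orderOf_dvd_natCard P ha).trans hP)
  set K := (Subgroup.centralizer ({a} : Set G)).subgroupOf N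
  have hK : K = ⊤ := by
    apply Subgroup.eq_top_of_card_eq
    refine Nat.dvd_antisymm (Subgroup.card_subgroup_dvd_card K) ?_
    rw [Nat.dvd_iff_prime_pow_dvd_dvd]
    intro q k hq hqk
    haveI : Fact q.Prime := ⟨hq⟩
    have hAK : P ≤ normalizer (N : Set G) := by
      rw [Subgroup.normalizer_eq_top_iff.2 ‹N.Normal›]; exact le_top
    obtain ⟨Q, hQ⟩ := Coprime.exists_invariant_sylow hAK hcop (Or.inl inferInstance) q
    refine ((Nat.pow_dvd_pow q ((hq.pow_dvd_iff_le_factorization Nat.card_pos.ne').1 hqk)).trans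
      (by rw [Q.card_eq_multiplicity])).trans (Subgroup.card_dvd_of_le (H := (Q : Subgroup N)) ?_)
    intro b hb
    rw [Subgroup.mem_subgroupOf, Subgroup.mem_centralizer_singleton_iff]
    refine (M11Order.commute_of_normalizes _ (hQ ha) ha19 ?_ (Subgroup.mem_map_of_mem _ hb)).symm
    intro c hc hmod
    rw [Subgroup.card_map_of_injective (Subgroup.subtype_injective _), Q.card_eq_multiplicity] at hc hmod ⊢
    have hlt := prime_pow_dvd_small hq ((Nat.ordProj_dvd (Nat.card N) q).trans hN)
    have hcle := Nat.le_of_dvd (pow_pos hq.pos _) hc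
    exact hmod.eq_of_lt_of_lt (lt_of_le_of_lt hcle hlt) hlt
  intro b hb
  have := hK.ge (Subgroup.mem_top (⟨b, hb⟩ : N))
  exact (Subgroup.mem_centralizer_singleton_iff.1 this).symm

/-- The Sylow 19-subgroup is normal once it is so in a normal subgroup and the quotient. -/
theorem normal_of_normal_subgroup [Fact (Nat.Prime 19)] (hG : Nat.card G ∣ 175560)
    (N : Subgroup G) [N.Normal] (hbot : N ≠ ⊥) (htop : N ≠ ⊤)
    (ih : ∀ (H : Type u) [Group H] [Finite H], Nat.card H ∣ 175560 → Nat.card H < Nat.card G →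
      ∀ P : Sylow 19 H, (P : Subgroup H).Normal)
    (P : Sylow 19 G) : (P : Subgroup G).Normal := by
  have hNlt : Nat.card N < Nat.card G := lt_of_le_of_ne
    (Nat.le_of_dvd Nat.card_pos (Subgroup.card_subgroup_dvd_card N))
    fun h => htop (Subgroup.eq_top_of_card_eq N h)
  have hNd : Nat.card N ∣ 175560 := (Subgroup.card_subgroup_dvd_card N).trans hG
  have hP : Nat.card (P : Subgroup G) ∣ 19 := by
    rw [P.card_eq_multiplicity]
    refine (Nat.Coprime.pow_left _ (by norm_num : Nat.Coprime 19 9240)).dvd_of_dvd_mul_right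
      ((Nat.ordProj_dvd _ 19).trans hG : _ ∣ 19 * 9240)
  have hmul := Subgroup.card_mul_index N
  by_cases h19 : 19 ∣ Nat.card N
  · have hPN : (P : Subgroup G) ≤ N := by
      intro a ha
      have hq : orderOf (a : G ⧸ N) ∣ 19 := by
        refine (orderOf_map_dvd (QuotientGroup.mk' N) a).trans ?_
        exact (Subgroup.orderOf_dvd_natCard _ ha).trans hP
      have hi : orderOf (a : G ⧸ N) ∣ N.index := orderOf_dvd_natCard _
      rw [← QuotientGroup.eq_one_iff, ← orderOf_eq_one_iff]
      rcases (Nat.dvd_prime (by norm_num)).1 hq with h | h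
      · exact h
      · exfalso
        rw [h] at hi
        have := (Nat.mul_dvd_mul h19 hi).trans (hmul.dvd.trans hG)
        norm_num at this
    let Q : Sylow 19 N := P.subtype hPN
    haveI := ih N hNd hNlt Q
    haveI := Sylow.characteristic_of_normal Q inferInstance
    have hmap : ((Q : Subgroup N).map N.subtype) = (P : Subgroup G) := by
      rw [Sylow.coe_subtype, Subgroup.subgroupOf_map_subtype, inf_eq_left.2 hPN]
    rw [← hmap]
    infer_instance
  · have hN' : Nat.card N ∣ 9240 :=
      (((by norm_num : Nat.Prime 19).coprime_iff_not_dvd.2 h19).symm).dvd_of_dvd_mul_left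
        (show Nat.card N ∣ 19 * 9240 from hNd)
    have hcomm := le_centralizer_of_normal (P : Subgroup G) hP N hN'
    have hidx : N.index < Nat.card G := by
      rw [← hmul]
      refine lt_mul_of_one_lt_left (Nat.pos_of_ne_zero Subgroup.index_ne_zero_of_finite) ?_
      exact (Subgroup.one_lt_card_iff_ne_bot N).2 hbot
    have hQn := ih (G ⧸ N) ((Dvd.intro_left _ hmul).trans hG) hidx
      (P.mapSurjective (QuotientGroup.mk'_surjective N))
    have hsup : ((P : Subgroup G) ⊔ N).Normal := by
      have := Subgroup.Normal.comap hQn (QuotientGroup.mk' N)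
      rwa [Sylow.coe_mapSurjective, Subgroup.comap_map_eq, QuotientGroup.ker_mk'] at this
    refine ⟨fun x hx g => ?_⟩
    have hmem := hsup.conj_mem x (le_sup_left (a := (P : Subgroup G)) hx) g
    obtain ⟨a, ha, b, hb, hab⟩ := Subgroup.mem_sup_of_normal_right.1 hmem
    have h19' : ∀ y ∈ (P : Subgroup G), y ^ 19 = 1 := fun y hy =>
      orderOf_dvd_iff_pow_eq_one.1 ((Subgroup.orderOf_dvd_natCard _ hy).trans hP)
    have hb1 : b = 1 := by
      have h1 : (g * x * g⁻¹) ^ 19 = 1 := by rw [conj_pow, h19' x hx]; group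
      rw [← hab, (show Commute a b from hcomm a ha b hb).mul_pow, h19' a ha, one_mul] at h1
      refine orderOf_eq_one_iff.1 (Nat.eq_one_of_dvd_coprimes
        ((by norm_num : Nat.Prime 19).coprime_iff_not_dvd.2 h19)
        (orderOf_dvd_of_pow_eq_one h1) (Subgroup.orderOf_dvd_natCard _ hb))
    rw [← hab, hb1, mul_one]
    exact ha

/-- Every group of order properly dividing 175560 has a normal Sylow 19-subgroup. -/
theorem normal_of_proper_divisor [Fact (Nat.Prime 19)] (H : Type u) [Group H] [Finite H]
    (hd : Nat.card H ∣ 175560) (hne : Nat.card H ≠ 175560) (P : Sylow 19 H) :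
    (P : Subgroup H).Normal := by
  induction hn : Nat.card H using Nat.strong_induction_on generalizing H with
  | _ n ihn =>
    subst hn
    by_cases h19 : 19 ∣ Nat.card H
    swap
    · have h1 : (P : Subgroup H) = ⊥ := by
        rw [← Subgroup.card_eq_one, P.card_eq_multiplicity,
          Nat.factorization_eq_zero_of_not_dvd h19, pow_zero]
      rw [h1]; infer_instance
    haveI : Nontrivial H := Finite.one_lt_card_iff_nontrivial.1 (by
      obtain ⟨k, hk⟩ := h19
      have := (Nat.card_pos : 0 < Nat.card H)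
      omega)
    by_cases hs : IsSimpleGroup H
    · by_cases hc : IsMulCommutative H
      · infer_instance
      · exfalso
        obtain ⟨d, hd'⟩ := h19
        rw [hd'] at hd hne
        exact false_of_simple hc (Nat.dvd_of_mul_dvd_mul_left (by norm_num) (show 19 * d ∣ 19 * 9240 from hd))
          (fun h => hne (by rw [h])) hd'
    · obtain ⟨N, hN, hNb, hNt⟩ : ∃ N : Subgroup H, N.Normal ∧ N ≠ ⊥ ∧ N ≠ ⊤ := by
        by_contra hcon
        refine hs ⟨fun N hN => ?_⟩
        by_contra hne'
        push Not at hne'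
        exact hcon ⟨N, hN, hne'.1, hne'.2⟩
      refine normal_of_normal_subgroup hd N hNb hNt (fun K _ _ hKd hKlt Q => ?_) P
      exact ihn (Nat.card K) hKlt K hKd (by
        have := Nat.le_of_dvd (by norm_num) hd
        omega) Q rfl

end Cfsg.Agent.Order175560
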