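import Cfsg.Agent.S3269
import Cfsg.Agent.S4481
import Cfsg.Agent.S4482
import Cfsg.Agent.Lib.Order175560.NoSimple
import Cfsg.Agent.Lib.SmallSimple.Below6233.TwoPart
import Cfsg.Agent.Lib.PGroup.UniqueOrderP
import Cfsg.Agent.Lib.PGroup.CyclicMaximal
import Cfsg.Agent.Lib.Transfer.Thompson
import Cfsg.Agent.Lib.Char.Descend
import Cfsg.Agent.Lib.ZStar.Assemble

/-!
# Simple groups of order 175560: the Sylow 2-subgroup is elementary abelian

A dihedral Sylow 2-subgroup contradicts the order formula of its principal block: the only solution has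
an element of order 19 centralised by a four-group, which the local data at 19 exclude.
-/

set_option autoImplicit false
set_option linter.style.haveILetI false
set_option linter.unusedSectionVars false

namespace Cfsg.Agent.Order175560

open Subgroup SmallSimple

/-- Divisors of `175560` below `420`. -/
def smallDegrees : List ℕ :=
  [1, 2, 3, 4, 5, 6, 7, 8, 10, 11, 12, 14, 15, 19, 20, 21, 22, 24, 28, 30, 33, 35, 38, 40, 42, 44, 55,
    56, 57, 60, 66, 70, 76, 77, 84, 88, 95, 105, 110, 114, 120, 132, 133, 140, 152, 154, 165, 168, 190,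
    209, 210, 220, 228, 231, 264, 266, 280, 285, 308, 330, 380, 385, 399, 418]

/-- Divisors of `21945`. -/
def oddPart : List ℕ :=
  [1, 3, 5, 7, 11, 15, 19, 21, 33, 35, 55, 57, 77, 95, 105, 133, 165, 209, 231, 285, 385, 399, 627,
    665, 1045, 1155, 1463, 1995, 3135, 4389, 7315, 21945]

theorem mem_smallDegrees : ∀ x < 420, x ∣ 175560 → x ∈ smallDegrees := by decide +kernel

theorem divisors_odd_part : ∀ i ∈ (105 : ℕ).divisors, ∀ j ∈ (209 : ℕ).divisors, i * j ∈ oddPart := by
  decide +kernel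

theorem mem_oddPart {m : ℕ} (h : m ∣ 21945) : m ∈ oddPart := by
  obtain ⟨i, j, hi, hj, rfl⟩ := (Nat.dvd_mul (m := 105) (n := 209)).1 (by simpa using h)
  exact divisors_odd_part i (Nat.mem_divisors.2 ⟨hi, by norm_num⟩) j (Nat.mem_divisors.2 ⟨hj, by norm_num⟩)

/-- Divisors of `43890`. -/
def evenPart : List ℕ := oddPart ++ oddPart.map (2 * ·)

theorem mem_evenPart {m a : ℕ} (hm : m ∣ 21945) (ha : a ∣ m * 2) : a ∈ evenPart := by
  obtain ⟨i, j, hi, hj, rfl⟩ := Nat.dvd_mul.1 ha
  rw [evenPart, List.mem_append, List.mem_map]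
  rcases (Nat.dvd_prime Nat.prime_two).1 hj with rfl | rfl
  · left; rw [mul_one]; exact mem_oddPart (hi.trans hm)
  · exact Or.inr ⟨i, mem_oddPart (hi.trans hm), mul_comm _ _⟩

/-- The order formula with a range cut. -/
def formulaOK (m a b : ℕ) : Bool :=
  if 21945 * (a * a * b * b) ≤ 48 * (m ^ 3 * (a + b) ^ 2) ∧
        16 * (m ^ 3 * (a + b) ^ 2) ≤ 9 * (21945 * (a * a * b * b)) then
      smallDegrees.all fun x =>
        decide (x < 2 ∨ (21945 * (x - 1) ^ 2 * (a * a * b * b) = 8 * (x * (x + 1)) * (m ^ 3 * (a + b) ^ 2) → 19 ∣ a)) &&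
        decide (x < 2 ∨ (21945 * (x + 1) ^ 2 * (a * a * b * b) = 8 * (x * (x - 1)) * (m ^ 3 * (a + b) ^ 2) → 19 ∣ a))
  else true

theorem formulaOK_all :
    (oddPart.all fun m => (evenPart.filter fun a => decide (a ∣ m * 2)).all fun a =>
      (evenPart.filter fun b => decide (b ∣ m * 2)).all fun b => formulaOK m a b) = true := by
  decide +kernel

theorem formula_solutions {m a b x : ℕ} (hm : m ∣ 21945) (ha : a ∣ m * 2) (hb : b ∣ m * 2) (hx2 : 2 ≤ x)
    (hx : x ∣ 175560) (hx' : x < 420)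
    (h : 21945 * (x - 1) ^ 2 * (a * a * b * b) = 8 * (x * (x + 1)) * (m ^ 3 * (a + b) ^ 2) ∨
      21945 * (x + 1) ^ 2 * (a * a * b * b) = 8 * (x * (x - 1)) * (m ^ 3 * (a + b) ^ 2)) : 19 ∣ a := by
  have h0 := formulaOK_all
  simp only [List.all_eq_true, List.mem_filter, decide_eq_true_eq] at h0
  have h1 := h0 m (mem_oddPart hm) a ⟨mem_evenPart hm ha, ha⟩ b ⟨mem_evenPart hm hb, hb⟩
  obtain ⟨k, rfl⟩ : ∃ k, x = k + 2 := ⟨x - 2, by omega⟩
  set A := 21945 * (a * a * b * b) with hA
  set B := m ^ 3 * (a + b) ^ 2 with hB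
  have hr : A ≤ 48 * B ∧ 16 * B ≤ 9 * A := by
    rcases h with h | h
    · have e : A * (k + 1) ^ 2 = 8 * ((k + 2) * (k + 3)) * B := by
        rw [show k + 2 - 1 = k + 1 from rfl, show k + 2 + 1 = k + 3 from rfl] at h
        simp only [hA, hB] at *
        linarith
      constructor
      · by_contra hlt
        have := Nat.mul_lt_mul_of_pos_right (Nat.lt_of_not_le hlt) (show 0 < (k + 1) ^ 2 by positivity)
        nlinarith [Nat.zero_le (B * k ^ 2), Nat.zero_le (B * k)]
      · by_contra hlt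
        have := Nat.mul_lt_mul_of_pos_right (Nat.lt_of_not_le hlt) (show 0 < (k + 1) ^ 2 by positivity)
        nlinarith [Nat.zero_le (B * k ^ 2), Nat.zero_le (B * k)]
    · have e : A * (k + 3) ^ 2 = 8 * ((k + 2) * (k + 1)) * B := by
        rw [show k + 2 - 1 = k + 1 from rfl, show k + 2 + 1 = k + 3 from rfl] at h
        simp only [hA, hB] at *
        linarith
      constructor
      · by_contra hlt
        have := Nat.mul_lt_mul_of_pos_right (Nat.lt_of_not_le hlt) (show 0 < (k + 3) ^ 2 by positivity)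
        nlinarith [Nat.zero_le (B * k ^ 2), Nat.zero_le (B * k)]
      · by_contra hlt
        have := Nat.mul_lt_mul_of_pos_right (Nat.lt_of_not_le hlt) (show 0 < (k + 3) ^ 2 by positivity)
        nlinarith [Nat.zero_le (B * k ^ 2), Nat.zero_le (B * k)]
  rw [formulaOK, if_pos hr] at h1
  simp only [List.all_eq_true, Bool.and_eq_true, decide_eq_true_eq] at h1
  obtain ⟨h2, h3⟩ := h1 (k + 2) (mem_smallDegrees _ hx' hx)
  rcases h with h | h
  · exact (h2.resolve_left (by omega)) h
  · exact (h3.resolve_left (by omega)) h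

variable {G : Type*} [Group G] [Finite G] [IsSimpleGroup G]

theorem nineteen_centraliser (hG : ¬ IsMulCommutative G) (hn : Nat.card G = 175560)
    [Fact (Nat.Prime 19)] (P : Sylow 19 G) : ¬ 4 ∣ cCard P := by
  intro h4
  obtain ⟨w, c, hP, hw, hc, hd⟩ := local_check hG 120 77 (by rw [hn]) (by norm_num)
    (fun w c => 4 ∣ c → 5 ∣ c ∧ w = 120) (by decide +kernel) P
  rw [hc] at h4
  obtain ⟨h5, rfl⟩ := hd ((Nat.Coprime.dvd_of_dvd_mul_left (by norm_num) h4))
  haveI : Fact (Nat.Prime 5) := ⟨by norm_num⟩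
  have hmul := card_sylow_mul_card_normalizer P
  rw [show Nat.card (normalizer ((P : Subgroup G) : Set G)) = 19 * 120 from hw, hn] at hmul
  refine not_dvd_centralizer hG (by decide) (hn ▸ by norm_num) P hP (k := 4) (r := 5) (n := 1)
    (by omega) (by norm_num) (by rw [card_alt_four]; norm_num) ?_
  rw [show Nat.card (centralizer ((P : Subgroup G) : Set G)) = 19 * c from hc, pow_one]
  exact dvd_mul_of_dvd_right h5 19

theorem false_of_dihedral (hG : ¬ IsMulCommutative G) (hn : Nat.card G = 175560) (S : Sylow 2 G)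
    {σ τ : G} (hσ : σ ∈ (S : Subgroup G)) (hτ : τ ∈ (S : Subgroup G)) (hσo : orderOf σ = 4)
    (hτo : orderOf τ = 2) (hτσ : τ ∉ zpowers σ) (hrel : τ * σ * τ⁻¹ = σ⁻¹)
    (hconj : IsConj (σ ^ 2) τ ∧ IsConj (σ ^ 2) (σ * τ)) : False := by
  haveI : Fact (Nat.Prime 2) := ⟨Nat.prime_two⟩
  haveI : Fact (Nat.Prime 19) := ⟨by norm_num⟩
  haveI := Fintype.ofFinite G
  have hS8 : Nat.card (S : Subgroup G) = 8 :=
    card_sylow_subgroup (p := 2) (k := 3) (m := 21945) (by rw [hn]; norm_num) (by norm_num) S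
  set z := σ ^ 2 with hz
  have hzo : orderOf z = 2 := by rw [hz, orderOf_pow' σ (by norm_num), hσo]; norm_num
  have hgen : closure ({σ, τ} : Set G) = (S : Subgroup G) := by
    have hle : closure ({σ, τ} : Set G) ≤ S := by
      rw [closure_le]; rintro x (rfl | rfl); exacts [hσ, hτ]
    refine eq_of_le_of_card_ge hle ?_
    set K := closure ({σ, τ} : Set G)
    have hA : zpowers σ < K := lt_of_le_of_ne (zpowers_le.2 (subset_closure (by simp)))
      fun e => hτσ (e.symm.le (subset_closure (by simp)))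
    have h1 := (Set.ncard_lt_ncard (show (zpowers σ : Set G) ⊂ (K : Set G) from hA))
    rw [← Nat.card_coe_set_eq, ← Nat.card_coe_set_eq] at h1
    change Nat.card (zpowers σ) < Nat.card K at h1
    rw [Nat.card_zpowers, hσo] at h1
    have h2 := card_dvd_of_le hle
    rw [hS8] at h2 ⊢
    have h3 := Nat.le_of_dvd (by norm_num) h2
    interval_cases Nat.card K <;> omega
  have hzc : ∀ s ∈ (S : Subgroup G), Commute s z := by
    have hle : (S : Subgroup G) ≤ centralizer ({z} : Set G) := by
      rw [← hgen, closure_le]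
      rintro u (rfl | rfl) <;> rw [SetLike.mem_coe, mem_centralizer_singleton_iff]
      · exact ((Commute.refl u).pow_right 2).eq
      · refine mul_inv_eq_iff_eq_mul.1 ?_
        rw [hz, ← conj_pow, hrel, inv_pow]
        refine inv_eq_of_mul_eq_one_right ?_
        rw [← pow_add, show (2 + 2 : ℕ) = orderOf σ by rw [hσo], pow_orderOf_eq_one]
    exact fun u hu => mem_centralizer_singleton_iff.1 (hle hu)
  obtain ⟨e⟩ := PGroup.dihedralEquivOfRel (G := (S : Subgroup G)) (N := 4) (a := ⟨σ, hσ⟩)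
    (b := ⟨τ, hτ⟩) (by rw [← orderOf_coe, hσo])
    (fun hc => by
      obtain ⟨i, hi⟩ := mem_zpowers_iff.1 hc
      exact hτσ (mem_zpowers_iff.2 ⟨i, by simpa using congrArg Subtype.val hi⟩))
    (Subtype.ext (by show τ ^ 2 = 1; rw [← hτo, pow_orderOf_eq_one])) (Subtype.ext hrel) (by rw [hS8])
  obtain ⟨M, hM⟩ := ZStar.exists_isPModular_two
  obtain ⟨-, χ₁, χ₂, χ₃, χ', δ₁, δ₂, δ₃, hδ₁, -, -, -, h1, -, -, -, -, -, -, hB, hval, -⟩ :=
    Cfsg.Agent.S4481.result M hM 3 le_rfl S ⟨e⟩ σ hσ (by rw [hσo]; norm_num)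
      (Complex.exp (2 * Real.pi * Complex.I / ((2 ^ (3 - 1) : ℕ) : ℂ)))
      (Complex.isPrimitiveRoot_exp _ (by norm_num))
  obtain ⟨hne, heq⟩ := Cfsg.Agent.S4482.result M hM 3 le_rfl S σ τ hσ hτ (by rw [hσo]; norm_num) hτo hrel
    hgen (by simpa [hz] using hconj) χ₁ (by rw [hB]; exact Or.inr (Or.inl rfl)) h1 δ₁ hδ₁
    fun l h h' => (hval l h h').1
  norm_num only [show (2 : ℕ) ^ (3 - 2) = 2 by norm_num] at heq
  rw [← hz, hn] at heq
  set x := Cfsg.charDegree (χ₁ : G → ℂ) with hx
  have hxd : x ∣ 175560 := hn ▸ Char.charDegree_dvd_card χ₁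
  have hxs : x ^ 2 ≤ 175560 := by
    rw [hx, Blocks.charDegree_eq, ← hn, ← Char.sum_degree_sq (G := G)]
    exact Finset.single_le_sum (fun φ _ => Nat.zero_le (Char.degree φ ^ 2)) (Finset.mem_univ χ₁)
  have hx' : x < 420 := by nlinarith
  -- the joint centralisers
  have hmain : ∀ y ∈ (S : Subgroup G), y * y = 1 → y ≠ 1 → y ≠ z →
      ∃ a, Nat.card (centralizer ({z, y} : Set G)) = 4 * a ∧
        (19 ∣ a → False) ∧ ∀ m, Nat.card (centralizer ({z} : Set G)) = 8 * m → a ∣ m * 2 := by
    intro y hy hy2 hy1 hyz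
    set C := centralizer ({z, y} : Set G)
    have hzy : Commute z y := (hzc y hy).symm
    have hzS : z ∈ (S : Subgroup G) := pow_mem hσ 2
    set K := closure ({z, y} : Set G)
    have hKS : K ≤ S := by rw [closure_le]; rintro u (rfl | rfl); exacts [hzS, hy]
    have hz1 : z ≠ 1 := fun e' => by rw [e', orderOf_one] at hzo; norm_num at hzo
    have hK4 : 4 ∣ Nat.card K := by
      have hsub : ({1, z, y} : Set G) ⊆ (K : Set G) := by
        rintro u (rfl | rfl | rfl)
        exacts [one_mem _, subset_closure (by simp), subset_closure (by simp)]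
      have h3 : ({1, z, y} : Set G).ncard = 3 := by
        rw [Set.ncard_eq_three]
        exact ⟨1, z, y, hz1.symm, hy1.symm, hyz.symm, rfl⟩
      have hle := Set.ncard_le_ncard hsub (Set.toFinite _)
      rw [h3, ← Nat.card_coe_set_eq] at hle
      change 3 ≤ Nat.card K at hle
      have h2 := card_dvd_of_le hKS
      rw [hS8] at h2
      have h3 := Nat.le_of_dvd (by norm_num) h2
      interval_cases Nat.card K <;> omega
    have hKC : K ≤ C := by
      rw [closure_le]
      intro u hu
      rw [SetLike.mem_coe, mem_centralizer_iff]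
      intro v hv
      rcases hu with rfl | rfl <;> rcases hv with rfl | rfl
      exacts [rfl, hzy.symm.eq, hzy.eq, rfl]
    obtain ⟨a, ha⟩ := hK4.trans (card_dvd_of_le hKC)
    refine ⟨a, ha, fun h19 => ?_, fun m hm => ?_⟩
    · obtain ⟨g, hg⟩ := exists_prime_orderOf_dvd_card' (G := C) 19 (ha ▸ dvd_mul_of_dvd_right h19 4)
      rw [← orderOf_coe] at hg
      obtain ⟨P, hP⟩ := (IsPGroup.of_card (p := 19) (n := 1) (G := zpowers (g : G))
        (by rw [Nat.card_zpowers, hg, pow_one])).exists_le_sylow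
      have hPc : Nat.card (P : Subgroup G) = 19 := by
        rw [card_sylow_subgroup (p := 19) (k := 1) (m := 9240) (by rw [hn]; norm_num) (by norm_num) P,
          pow_one]
      have hPg : zpowers (g : G) = (P : Subgroup G) :=
        eq_of_le_of_card_ge hP (by rw [hPc, Nat.card_zpowers, hg])
      refine nineteen_centraliser hG hn P (hK4.trans (card_dvd_of_le ?_))
      rw [closure_le]
      intro u hu
      rw [SetLike.mem_coe, mem_centralizer_iff]
      intro v hv
      rw [← hPg] at hv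
      obtain ⟨i, rfl⟩ := mem_zpowers_iff.1 hv
      exact (Commute.zpow_left (mem_centralizer_iff.1 g.2 u hu).symm i).eq
    · have h2 := card_dvd_of_le (show C ≤ centralizer ({z} : Set G) from
        centralizer_le (by simp))
      rw [ha, hm, show 8 * m = 4 * (m * 2) by ring] at h2
      exact Nat.dvd_of_mul_dvd_mul_left (by norm_num) h2
  have hστ2 : σ * τ * (σ * τ) = 1 := by
    have h' : τ * σ * τ = σ⁻¹ := by
      rw [← hrel]; congr 1
      exact (inv_eq_of_mul_eq_one_right (by rw [← pow_two, ← hτo, pow_orderOf_eq_one])).symm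
    calc σ * τ * (σ * τ) = σ * (τ * σ * τ) := by group
      _ = 1 := by rw [h', mul_inv_cancel]
  obtain ⟨a, ha, ha19, ham⟩ := hmain τ hτ (by rw [← pow_two, ← hτo, pow_orderOf_eq_one])
    (fun e' => by rw [e', orderOf_one] at hτo; norm_num at hτo)
    (fun e' => hτσ (e' ▸ pow_mem (mem_zpowers σ) 2))
  obtain ⟨b, hb, -, hbm⟩ := hmain (σ * τ) (mul_mem hσ hτ) hστ2
    (fun e' => hτσ (by rw [mul_eq_one_iff_inv_eq] at e'; exact e' ▸ inv_mem (mem_zpowers σ)))
    (fun e' => hτσ (by
      have : τ = σ := by rw [hz, pow_two] at e'; exact mul_left_cancel e'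
      exact this ▸ mem_zpowers σ))
  obtain ⟨m, hm⟩ : 8 ∣ Nat.card (centralizer ({z} : Set G)) := by
    have hle : (S : Subgroup G) ≤ centralizer ({z} : Set G) := fun u hu =>
      mem_centralizer_singleton_iff.2 (hzc u hu).eq
    exact hS8 ▸ card_dvd_of_le hle
  have hm' : m ∣ 21945 := by
    have := card_subgroup_dvd_card (centralizer ({z} : Set G))
    rw [hm, hn] at this
    exact Nat.dvd_of_mul_dvd_mul_left (show 0 < 8 by norm_num) (show 8 * m ∣ 8 * 21945 from this)
  have hx2 : 2 ≤ x := by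
    rcases Nat.lt_or_ge x 2 with hlt | hge
    · exfalso
      have hx1 : x = 1 := by
        have : x ≠ 0 := fun h0 => by rw [h0] at hxd; norm_num at hxd
        omega
      rw [hx1, hm, ha, hb] at heq
      rcases hδ₁ with rfl | rfl
      · exact hne (by rw [hx1]; norm_num)
      · norm_num at heq
    · exact hge
  refine ha19 (formula_solutions hm' (ham m hm) (hbm m hm) hx2 hxd hx' ?_)
  have ha0 : (a : ℚ) ≠ 0 := by
    have : 0 < Nat.card (centralizer ({z, τ} : Set G)) := Nat.card_pos
    exact_mod_cast (show a ≠ 0 by omega)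
  have hb0 : (b : ℚ) ≠ 0 := by
    have : 0 < Nat.card (centralizer ({z, σ * τ} : Set G)) := Nat.card_pos
    exact_mod_cast (show b ≠ 0 by omega)
  rw [hm, ha, hb] at heq
  rcases hδ₁ with rfl | rfl
  · left
    obtain ⟨k, hk⟩ : ∃ k, x = k + 1 := ⟨x - 1, by omega⟩
    rw [hk] at heq ⊢
    rw [Nat.add_sub_cancel]
    push_cast at heq
    field_simp at heq
    have : (21945 : ℚ) * (k : ℚ) ^ 2 * (a * a * b * b) =
        8 * ((k + 1) * (k + 1 + 1)) * (m ^ 3 * (a + b) ^ 2) := by linear_combination heq / 128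
    exact_mod_cast this
  · right
    obtain ⟨k, hk⟩ : ∃ k, x = k + 1 := ⟨x - 1, by omega⟩
    rw [hk] at heq ⊢
    rw [Nat.add_sub_cancel]
    push_cast at heq
    field_simp at heq
    have : (21945 : ℚ) * ((k : ℚ) + 1 + 1) ^ 2 * (a * a * b * b) =
        8 * ((k + 1) * k) * (m ^ 3 * (a + b) ^ 2) := by linear_combination heq / 128
    exact_mod_cast this

/-- The Sylow 2-subgroups have exponent two. -/
theorem sylow_two_sq (hG : ¬ IsMulCommutative G) (hn : Nat.card G = 175560) (S : Sylow 2 G) :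
    ∀ x ∈ (S : Subgroup G), x * x = 1 := by
  haveI : Fact (Nat.Prime 2) := ⟨Nat.prime_two⟩
  have hS8 : Nat.card (S : Subgroup G) = 8 :=
    card_sylow_subgroup (p := 2) (k := 3) (m := 21945) (by rw [hn]; norm_num) (by norm_num) S
  by_contra hcon
  push Not at hcon
  obtain ⟨y, hyS, hy⟩ := hcon
  have hord : orderOf y = 4 := by
    have hd : orderOf y ∣ 2 ^ 3 := by
      rw [show (2 : ℕ) ^ 3 = Nat.card (S : Subgroup G) by rw [hS8]; norm_num]
      exact Subgroup.orderOf_dvd_natCard _ hyS
    obtain ⟨j, hj, he⟩ := (Nat.dvd_prime_pow Nat.prime_two).1 hd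
    have h1 : ¬ orderOf y ∣ 2 := fun h => hy (by rw [← pow_two]; exact orderOf_dvd_iff_pow_eq_one.1 h)
    interval_cases j
    · exact absurd (he ▸ one_dvd 2) h1
    · exact absurd (he ▸ dvd_rfl) h1
    · exact he
    · exact (Below6233.false_of_full_two hG (a := 3) (m := 21945) (by rw [hn]; norm_num) (by norm_num)
        (by norm_num) he).elim
  set A := zpowers y with hAdef
  have hAS : A ≤ (S : Subgroup G) := zpowers_le.2 hyS
  have hidx : A.relIndex (S : Subgroup G) = 2 := by
    have h := Subgroup.card_mul_index (A.subgroupOf (S : Subgroup G))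
    rw [Nat.card_congr (subgroupOfEquivOfLe hAS).toEquiv, Nat.card_zpowers, hord, hS8] at h
    show (A.subgroupOf (S : Subgroup G)).index = 2
    omega
  haveI hnorm : (A.subgroupOf (S : Subgroup G)).Normal := normal_of_index_eq_two hidx
  have hpow : ∀ a ∈ A, a = 1 ∨ a = y ∨ a = y ^ 2 ∨ a = y⁻¹ := by
    intro a ha
    obtain ⟨i, rfl⟩ := (Submonoid.mem_powers_iff _ _).1
      ((isOfFinOrder_of_finite y).mem_powers_iff_mem_zpowers.2 ha)
    rw [← pow_mod_orderOf, hord]
    have hi := Nat.mod_lt i (show 4 > 0 by norm_num)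
    interval_cases i % 4
    · exact Or.inl (pow_zero y)
    · exact Or.inr (Or.inl (pow_one y))
    · exact Or.inr (Or.inr (Or.inl rfl))
    · refine Or.inr (Or.inr (Or.inr (eq_inv_of_mul_eq_one_left ?_)))
      rw [← pow_succ, ← pow_orderOf_eq_one y, hord]
  have huniq : ∀ a ∈ A, a * a = 1 → a ≠ 1 → a = y ^ 2 := by
    intro a ha ha2 ha1
    rcases hpow a ha with rfl | rfl | rfl | rfl
    · exact absurd rfl ha1
    · exact absurd ha2 hy
    · rfl
    · exact absurd (by rw [← inv_eq_one, mul_inv_rev]; exact ha2) hy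
  have hz : y ^ 2 * y ^ 2 = 1 := by rw [← pow_add, show 2 + 2 = orderOf y by rw [hord], pow_orderOf_eq_one]
  have hzcent : ∀ a ∈ (S : Subgroup G), a * y ^ 2 * a⁻¹ = y ^ 2 := fun a ha => by
    refine huniq _ ?_ ?_ ?_
    · have := hnorm.conj_mem ⟨y ^ 2, pow_mem hyS 2⟩
        (mem_subgroupOf.2 (pow_mem (mem_zpowers y) 2)) ⟨a, ha⟩
      simpa [mem_subgroupOf] using this
    · calc a * y ^ 2 * a⁻¹ * (a * y ^ 2 * a⁻¹) = a * (y ^ 2 * y ^ 2) * a⁻¹ := by group
        _ = 1 := by rw [hz]; group
    · intro h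
      rw [conj_eq_one_iff, pow_two] at h
      exact hy h
  by_cases hs : ∃ s ∈ (S : Subgroup G), s ∉ A ∧ s * s = 1
  · obtain ⟨s, hsS, hsA, hs2⟩ := hs
    have hfus : ∀ u ∈ (S : Subgroup G), u ∉ A → u * u = 1 → ∃ g : G, g * u * g⁻¹ = y ^ 2 := by
      intro u huS huA hu2
      by_contra hno
      simp only [not_exists] at hno
      obtain ⟨M, hM, hMi, huM⟩ := Transfer.exists_index_two_of_involution S A hAS hidx u
        (by rw [pow_two]; exact hu2) huS huA fun g hg => by
          refine hno g (huniq _ hg ?_ fun h => huA ?_)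
          · calc g * u * g⁻¹ * (g * u * g⁻¹) = g * (u * u) * g⁻¹ := by group
              _ = 1 := by rw [hu2]; group
          · rw [conj_eq_one_iff] at h
            exact h ▸ one_mem A
      rcases hM.eq_bot_or_eq_top with rfl | rfl
      · rw [index_bot, hn] at hMi; norm_num at hMi
      · rw [index_top] at hMi; norm_num at hMi
    have hcases : ∀ u ∈ (S : Subgroup G), u ∈ A ∨ ∃ a ∈ A, u = s * a := by
      intro u hu
      by_cases huA : u ∈ A
      · exact Or.inl huA
      refine Or.inr ⟨s⁻¹ * u, ?_, by group⟩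
      have hiff := mul_mem_iff_of_index_two (show (A.subgroupOf (S : Subgroup G)).index = 2 from hidx)
        (a := (⟨s, hsS⟩ : (S : Subgroup G))⁻¹) (b := ⟨u, hu⟩)
      simp only [mem_subgroupOf, InvMemClass.coe_inv, MulMemClass.coe_mul, inv_mem_iff, hsA, huA,
        iff_self, iff_true] at hiff
      exact hiff
    have hconj : s * y * s⁻¹ = y ∨ s * y * s⁻¹ = y⁻¹ := by
      have hm : s * y * s⁻¹ ∈ A := by
        have := hnorm.conj_mem ⟨y, hyS⟩ (mem_subgroupOf.2 (mem_zpowers y)) ⟨s, hsS⟩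
        simpa [mem_subgroupOf] using this
      rcases hpow _ hm with h | h | h | h
      · rw [conj_eq_one_iff] at h
        exact absurd (by rw [h, mul_one]) hy
      · exact Or.inl h
      · exfalso
        apply hy
        have e : s * (y * y) * s⁻¹ = 1 := by
          calc s * (y * y) * s⁻¹ = s * y * s⁻¹ * (s * y * s⁻¹) := by group
            _ = 1 := by rw [h, hz]
        exact conj_eq_one_iff.1 e
      · exact Or.inr h
    rcases hconj with hcom | hinv
    · have hcs : Commute s y := mul_inv_eq_iff_eq_mul.1 hcom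
      have hcyA : ∀ a ∈ A, Commute s a := fun a ha => by
        obtain ⟨i, rfl⟩ := mem_zpowers_iff.1 ha
        exact hcs.zpow_right i
      haveI : IsMulCommutative (S : Subgroup G) := by
        refine isMulCommutative_iff.2 fun u v => Subtype.ext ?_
        show (u : G) * v = v * u
        have hAA : ∀ a ∈ A, ∀ b ∈ A, Commute a b := fun a ha b hb => by
          obtain ⟨i, rfl⟩ := mem_zpowers_iff.1 ha
          obtain ⟨j, rfl⟩ := mem_zpowers_iff.1 hb
          exact (Commute.refl y).zpow_zpow i j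
        rcases hcases u u.2 with hu | ⟨a, ha, hu⟩ <;> rcases hcases v v.2 with hv | ⟨b, hb, hv⟩
        · exact (hAA _ hu _ hv).eq
        · rw [hv]; exact (((hcyA _ hu).symm).mul_right (hAA _ hu _ hb)).eq
        · rw [hu]; exact ((hcyA _ hv).mul_left (hAA _ ha _ hv)).eq
        · rw [hu, hv]
          exact (((Commute.refl s).mul_right (hcyA b hb)).mul_left
            (((hcyA a ha).symm).mul_right (hAA a ha b hb))).eq
      have hsq : ∀ u ∈ (S : Subgroup G), u * u ∈ A := by
        intro u hu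
        rcases hcases u hu with h | ⟨a, ha, rfl⟩
        · exact mul_mem h h
        · rw [show s * a * (s * a) = s * (a * s) * a by group, ← (hcyA a ha).eq,
            show s * (s * a) * a = s * s * (a * a) by group, hs2, one_mul]
          exact mul_mem ha ha
      obtain ⟨g, hg⟩ := hfus s hsS hsA hs2
      obtain ⟨n, hn', hnz⟩ := Sylow.conj_eq_normalizer_conj_of_mem S s g⁻¹ hsS
        (by rw [inv_inv, hg]; exact pow_mem hyS 2)
      rw [inv_inv, hg] at hnz
      have hy' : n * y * n⁻¹ ∈ (S : Subgroup G) := (mem_normalizer_iff.1 hn' y).1 hyS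
      have e : s = n * y * n⁻¹ * (n * y * n⁻¹) := by
        calc s = n * (n⁻¹ * s * n) * n⁻¹ := by group
          _ = n * y ^ 2 * n⁻¹ := by rw [← hnz]
          _ = n * y * n⁻¹ * (n * y * n⁻¹) := by rw [pow_two]; group
      exact hsA (e ▸ hsq _ hy')
    · obtain ⟨g, hg⟩ := hfus s hsS hsA hs2
      have hys2 : y * s * (y * s) = 1 := by
        rw [inv_eq_of_mul_eq_one_right hs2] at hinv
        calc y * s * (y * s) = y * (s * y * s) := by group
          _ = 1 := by rw [hinv, mul_inv_cancel]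
      obtain ⟨g', hg'⟩ := hfus (y * s) (mul_mem hyS hsS)
        (fun h => hsA (by simpa using mul_mem (inv_mem (mem_zpowers y)) h)) hys2
      exact false_of_dihedral hG hn S hyS hsS hord
        (orderOf_eq_prime (by rw [pow_two]; exact hs2) fun h => hsA (h ▸ one_mem A)) hsA hinv
        ⟨(isConj_iff.2 ⟨g, hg⟩).symm, (isConj_iff.2 ⟨g', hg'⟩).symm⟩
  · push Not at hs
    have hone : ∀ u ∈ (S : Subgroup G), u * u = 1 → u ≠ 1 → u = y ^ 2 := fun u hu hu2 hu1 =>
      huniq u (by by_contra hc; exact hs u hu hc hu2) hu2 hu1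
    have gen : ∀ H : Subgroup (S : Subgroup G), Nat.card H = 2 →
        H = zpowers (⟨y ^ 2, pow_mem hyS 2⟩ : (S : Subgroup G)) := by
      intro H hH
      obtain ⟨h, hh⟩ := exists_prime_orderOf_dvd_card' (G := H) 2 (by rw [hH])
      rw [← orderOf_coe] at hh
      obtain ⟨h2, h1⟩ := orderOf_eq_prime_iff.1 hh
      rw [pow_two] at h2
      have : (h : (S : Subgroup G)) = ⟨y ^ 2, pow_mem hyS 2⟩ := Subtype.ext
        (hone _ (h : (S : Subgroup G)).2 (congrArg Subtype.val h2) (fun e => h1 (Subtype.ext e)))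
      rw [← this]
      exact (eq_of_le_of_card_ge (zpowers_le.2 h.2) (by rw [hH, Nat.card_zpowers, hh])).symm
    rcases PGroup.cyclic_or_quaternion_of_unique (G := (S : Subgroup G)) (p := 2) S.isPGroup'
        (fun H K hH hK => by rw [gen H hH, gen K hK]) with hc | ⟨-, k, hk, hcard, ⟨eQ⟩⟩
    · obtain ⟨g, hg⟩ := IsCyclic.exists_ofOrder_eq_natCard (α := (S : Subgroup G))
      exact Below6233.false_of_full_two hG (a := 3) (m := 21945) (by rw [hn]; norm_num) (by norm_num)
        (by norm_num) (g := (g : G)) (by rw [orderOf_coe, hg, hS8]; norm_num)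
    · rw [hS8] at hcard
      have hk1 : k = 1 := by
        have : k + 2 = 3 := Nat.pow_right_injective (le_refl 2) (by simpa using hcard.symm)
        omega
      subst hk1
      exact Cfsg.Agent.S3269.result S (S : Subgroup G) ⊥
        ⟨le_rfl, bot_le, fun a _ b hb => by rw [mem_bot.1 hb, mul_one, one_mul],
          inf_bot_eq _, sup_bot_eq _⟩ 1 le_rfl eQ
        (fun r hr h => absurd (by rw [mem_bot.1 hr, orderOf_one] at h; exact h) (by norm_num)) inferInstance

end Cfsg.Agent.Order175560
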