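import Cfsg.Agent.Lib.SmallSimple.CentralizerOrbits
import Cfsg.Agent.Lib.SmallSimple.Criteria

/-!
# Sylow subgroups of prime order and their local subgroups

Bookkeeping for simple groups whose order has several primes to the first power.
-/

set_option autoImplicit false
set_option linter.style.haveILetI false
set_option linter.unusedSectionVars false

namespace Cfsg.Agent.Order175560

open Subgroup SmallSimple
open scoped Pointwise

variable {G : Type*} [Group G] [Finite G] {p q : ℕ} [hp : Fact p.Prime] [hq : Fact q.Prime]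

/-- The order of the normaliser of a Sylow subgroup. -/
noncomputable abbrev nCard (P : Sylow p G) : ℕ :=
  Nat.card (normalizer ((P : Subgroup G) : Set G))

/-- The order of the centraliser of a Sylow subgroup. -/
noncomputable abbrev cCard (P : Sylow p G) : ℕ :=
  Nat.card (centralizer ((P : Subgroup G) : Set G))

theorem cCard_eq (P P' : Sylow p G) : cCard P = cCard P' := by
  suffices h : ∀ P P' : Sylow p G, cCard P ∣ cCard P' from
    Nat.dvd_antisymm (h P P') (h P' P)
  intro P P'
  obtain ⟨g, rfl⟩ := MulAction.exists_smul_eq G P P'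
  rw [show cCard P = Nat.card ((centralizer ((P : Subgroup G) : Set G)).map (MulAut.conj g).toMonoidHom)
    from (Subgroup.card_map_of_injective (MulAut.conj g).injective).symm]
  refine Subgroup.card_dvd_of_le ?_
  rintro _ ⟨c, hc, rfl⟩
  rw [Sylow.coe_subgroup_smul]
  intro a ha
  obtain ⟨b, hb, rfl⟩ := (Subgroup.mem_smul_pointwise_iff_exists a _ _).1 ha
  show (MulAut.conj g b) * MulAut.conj g c = MulAut.conj g c * MulAut.conj g b
  rw [← map_mul, ← map_mul, hc b hb]

omit [Finite G] in
theorem zpowers_eq_of_card {A : Subgroup G} (hA : Nat.card A = p) {x : G} (hx : x ∈ A) (hx1 : x ≠ 1) :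
    Subgroup.zpowers x = A := by
  haveI : Finite A := Nat.finite_of_card_ne_zero (by rw [hA]; exact hp.out.ne_zero)
  refine Subgroup.eq_of_le_of_card_ge (Subgroup.zpowers_le.2 hx) ?_
  rw [Nat.card_zpowers, hA]
  rcases hp.out.eq_one_or_self_of_dvd _
    ((Subgroup.orderOf_dvd_natCard _ hx).trans hA.dvd : orderOf x ∣ p) with h | h
  · exact absurd (orderOf_eq_one_iff.1 h) hx1
  · exact h.ge

theorem le_centralizer_self {A : Subgroup G} (hA : Nat.card A = p) :
    A ≤ centralizer (A : Set G) := by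
  haveI : IsCyclic A := isCyclic_of_prime_card hA
  intro a ha b hb
  have := IsCyclic.isMulCommutative (α := A)
  exact congrArg Subtype.val (mul_comm' (⟨b, hb⟩ : A) ⟨a, ha⟩)

theorem dvd_card_sylow_centralizer (P : Sylow p G) (hP : Nat.card (P : Subgroup G) = p) :
    p ∣ cCard P := by
  have h := Subgroup.card_dvd_of_le (le_centralizer_self hP)
  rw [hP] at h
  exact h

/-- Two Sylow subgroups of prime order: `q ∣ |C(P)|` forces `p ∣ |C(Q)|`. -/
theorem dvd_centralizer_symm (P : Sylow p G) (hP : Nat.card (P : Subgroup G) = p)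
    (Q : Sylow q G) (hQ : Nat.card (Q : Subgroup G) = q) (h : q ∣ cCard P) : p ∣ cCard Q := by
  obtain ⟨⟨y, hy⟩, hoy⟩ :=
    exists_prime_orderOf_dvd_card' (G := centralizer ((P : Subgroup G) : Set G)) q h
  rw [Subgroup.orderOf_mk] at hoy
  have hpg : IsPGroup q (zpowers y) := IsPGroup.of_card (n := 1) (by rw [Nat.card_zpowers, hoy, pow_one])
  obtain ⟨R, hR⟩ := hpg.exists_le_sylow
  have hRc : Nat.card (R : Subgroup G) = q := by
    rw [R.card_eq_multiplicity, ← Q.card_eq_multiplicity, hQ]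
  have hle : (P : Subgroup G) ≤ centralizer ((R : Subgroup G) : Set G) := by
    intro a ha z hz
    have hyR := zpowers_eq_of_card hRc (hR (mem_zpowers y))
      (fun h1 => by rw [h1, orderOf_one] at hoy; exact hq.out.one_lt.ne hoy)
    rw [← hyR] at hz
    obtain ⟨k, rfl⟩ := mem_zpowers_iff.1 hz
    exact (Commute.zpow_left (show Commute y a from (hy a ha).symm) k).eq
  have := Subgroup.card_dvd_of_le hle
  rw [hP] at this
  rwa [cCard_eq Q R]

omit [Finite G] in
/-- Conjugation by a normalising element, in the automorphism group. -/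
theorem normalizer_hom_eq_one {A : Subgroup G} {x : normalizer (A : Set G)}
    (h : A.normalizerMonoidHom x = 1) : (x : G) ∈ centralizer (A : Set G) := by
  have h' : x ∈ A.normalizerMonoidHom.ker := h
  rw [Subgroup.normalizerMonoidHom_ker, Subgroup.mem_subgroupOf] at h'
  exact h'

theorem le_centralizer_of_coprime (P : Sylow p G) (hP : Nat.card (P : Subgroup G) = p)
    {H : Subgroup G} (hH : H ≤ normalizer ((P : Subgroup G) : Set G))
    (hcop : (Nat.card H).Coprime (p - 1)) : H ≤ centralizer ((P : Subgroup G) : Set G) := by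
  haveI : IsCyclic (P : Subgroup G) := isCyclic_of_prime_card hP
  intro x hx
  set f := (P : Subgroup G).normalizerMonoidHom
  refine normalizer_hom_eq_one (x := ⟨x, hH hx⟩) ?_
  have h1 : orderOf (f ⟨x, hH hx⟩) ∣ Nat.card H :=
    (orderOf_map_dvd _ _).trans (by rw [Subgroup.orderOf_mk]; exact Subgroup.orderOf_dvd_natCard H hx)
  have h2 : orderOf (f ⟨x, hH hx⟩) ∣ p - 1 := by
    have := orderOf_dvd_natCard (f ⟨x, hH hx⟩)
    rwa [IsCyclic.card_mulAut, hP, Nat.totient_prime hp.out] at this
  exact orderOf_eq_one_iff.1 (Nat.eq_one_of_dvd_coprimes hcop h1 h2)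

/-- An element inverted inside the normaliser of a cyclic subgroup centralises it. -/
theorem mem_centralizer_of_inverted {A : Subgroup G} [IsCyclic A] {x u : G}
    (hx : x ∈ normalizer (A : Set G)) (hu : u ∈ normalizer (A : Set G))
    (hinv : u * x * u⁻¹ = x⁻¹) (hodd : Odd (orderOf x)) : x ∈ centralizer (A : Set G) := by
  set f := A.normalizerMonoidHom
  have he : (⟨u, hu⟩ : normalizer (A : Set G)) * ⟨x, hx⟩ * ⟨u, hu⟩⁻¹ = ⟨x, hx⟩⁻¹ := Subtype.ext hinv
  have h := congrArg f he
  rw [map_mul, map_mul, map_inv, map_inv] at h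
  have hcomm : ∀ a b : MulAut A, a * b = b * a := fun a b => by
    apply (IsCyclic.mulAutMulEquiv A).injective
    rw [map_mul, map_mul, mul_comm]
  rw [hcomm (f ⟨u, hu⟩), mul_inv_cancel_right] at h
  refine normalizer_hom_eq_one (x := ⟨x, hx⟩) ?_
  have h2 : f ⟨x, hx⟩ ^ 2 = 1 := by
    rw [pow_two]; nth_rw 2 [h]; rw [mul_inv_cancel]
  have hd : orderOf (f ⟨x, hx⟩) ∣ orderOf x := by
    have := orderOf_map_dvd f (⟨x, hx⟩ : normalizer (A : Set G))
    rwa [Subgroup.orderOf_mk] at this
  exact orderOf_eq_one_iff.1 (Nat.eq_one_of_dvd_coprimes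
    (Nat.coprime_two_left.2 hodd) (orderOf_dvd_of_pow_eq_one h2) hd)

/-- An involution of `N(A) \ C(A)`, `A` of prime order, inverts `A`. -/
theorem inverts_of_not_mem {A : Subgroup G} (hA : Nat.card A = p) {u : G}
    (hu : u ∈ normalizer (A : Set G)) (hu2 : u * u = 1) (huC : u ∉ centralizer (A : Set G))
    {x : G} (hx : x ∈ A) : u * x * u⁻¹ = x⁻¹ := by
  by_contra hne
  set y := u * x * u⁻¹ with hy
  have hyA : y ∈ A := (Subgroup.mem_normalizer_iff.1 hu x).1 hx
  have hxy : x * y ≠ 1 := fun h => hne (eq_inv_of_mul_eq_one_right h)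
  have hfix : u * (x * y) * u⁻¹ = x * y := by
    rw [show u * (x * y) * u⁻¹ = (u * x * u⁻¹) * (u * y * u⁻¹) by group, ← hy,
      show u * y * u⁻¹ = x from by
        rw [hy, show u * (u * x * u⁻¹) * u⁻¹ = (u * u) * x * (u * u)⁻¹ by group, hu2]
        simp]
    exact le_centralizer_self hA hx y hyA
  apply huC
  intro a ha
  rw [← zpowers_eq_of_card hA (mul_mem hx hyA) hxy] at ha
  obtain ⟨k, rfl⟩ := mem_zpowers_iff.1 ha
  exact ((show Commute u (x * y) from mul_inv_eq_iff_eq_mul.1 hfix).zpow_right k).symm.eq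

theorem exists_involution_not_mem (P : Sylow p G)
    (h : (2 : ℕ) ∣ nCard P) (hc : ¬ 2 ∣ cCard P) :
    ∃ u : G, u ∈ normalizer ((P : Subgroup G) : Set G) ∧ u * u = 1 ∧ u ≠ 1 ∧
      u ∉ centralizer ((P : Subgroup G) : Set G) := by
  haveI : Fact (Nat.Prime 2) := ⟨Nat.prime_two⟩
  obtain ⟨⟨u, hu⟩, hou⟩ :=
    exists_prime_orderOf_dvd_card' (G := normalizer ((P : Subgroup G) : Set G)) 2 h
  rw [Subgroup.orderOf_mk] at hou
  refine ⟨u, hu, ?_, fun h1 => ?_, fun hC => hc ?_⟩
  · have := pow_orderOf_eq_one u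
    rwa [hou, pow_two] at this
  · rw [h1, orderOf_one] at hou; norm_num at hou
  · exact hou ▸ Subgroup.orderOf_dvd_natCard _ hC

/-- Sylow count inside a subgroup. -/
theorem relIndex_normalizer_modEq (Q : Sylow q G) {H : Subgroup G} (hQH : (Q : Subgroup G) ≤ H) :
    (normalizer ((Q : Subgroup G) : Set G)).relIndex H % q = 1 := by
  have h := card_sylow_modEq_one q H
  have e : normalizer (((Q.subtype hQH : Sylow q H) : Subgroup H) : Set H) =
      (normalizer ((Q : Subgroup G) : Set G)).subgroupOf H := by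
    rw [Sylow.coe_subtype]
    exact (Subgroup.subgroupOf_normalizer_eq hQH).symm
  rw [Sylow.card_eq_index_normalizer (Q.subtype hQH)] at h
  change (normalizer (((Q.subtype hQH : Sylow q H) : Subgroup H) : Set H)).index ≡ 1 [MOD q] at h
  rw [e] at h
  exact Eq.trans h (Nat.mod_eq_of_lt hq.out.one_lt)

/-- A Sylow subgroup which is the only one inside `H` is normalised by `N(H)`. -/
theorem normalizer_le_of_unique (Q : Sylow q G) {H : Subgroup G} (hQH : (Q : Subgroup G) ≤ H)
    {l r : ℕ} (hl : l ∣ Nat.card (normalizer ((Q : Subgroup G) : Set G) ⊓ H : Subgroup G))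
    (hH : Nat.card H = l * r) (hr : ∀ n, n ∣ r → n % q = 1 → n = 1) :
    normalizer (H : Set G) ≤ normalizer ((Q : Subgroup G) : Set G) := by
  set N := normalizer ((Q : Subgroup G) : Set G)
  have hidx : N.relIndex H = 1 := by
    refine hr _ ?_ (relIndex_normalizer_modEq Q hQH)
    obtain ⟨t, ht⟩ := hl
    have h := Subgroup.card_mul_index (N.subgroupOf H)
    rw [show (N.subgroupOf H).index = N.relIndex H from rfl, ← inf_subgroupOf_right,
      Nat.card_congr (Subgroup.subgroupOfEquivOfLe (inf_le_right : N ⊓ H ≤ H)).toEquiv, ht, hH,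
      mul_assoc] at h
    have hl0 : 0 < l := by
      have := (Nat.card_pos : 0 < Nat.card H)
      rw [hH] at this; exact Nat.pos_of_mul_pos_right this
    exact Dvd.intro_left t (Nat.eq_of_mul_eq_mul_left hl0 h)
  have hHN : H ≤ N := Subgroup.relIndex_eq_one.1 hidx
  intro g hg
  rw [← SmallSimple.smul_sylow_eq_iff]
  have hle : ((g • Q : Sylow q G) : Subgroup G) ≤ (Q : Subgroup G) := by
    intro a ha
    have haH : a ∈ H := by
      rw [Sylow.coe_subgroup_smul] at ha
      obtain ⟨b, hb, rfl⟩ := (Subgroup.mem_smul_pointwise_iff_exists a _ _).1 ha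
      exact (Subgroup.mem_normalizer_iff.1 hg b).1 (hQH hb)
    exact mem_of_smul_sylow_eq (P := g • Q) ha (SmallSimple.smul_sylow_eq_iff.2 (hHN haH))
  exact Sylow.ext ((g • Q).is_maximal' Q.isPGroup' hle).symm

/-- If the Sylow `q`-subgroup is unique inside `C(P)` then `N(P) ≤ N(Q)`. -/
theorem exists_normalizer_le (P : Sylow p G) (hP : Nat.card (P : Subgroup G) = p) (hpq : p ≠ q)
    (hQ : ∀ Q : Sylow q G, Nat.card (Q : Subgroup G) = q) {r : ℕ} (hc : cCard P = p * q * r)
    (hr : ∀ n, n ∣ r → n % q = 1 → n = 1) :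
    ∃ Q : Sylow q G, (Q : Subgroup G) ≤ centralizer ((P : Subgroup G) : Set G) ∧
      normalizer ((P : Subgroup G) : Set G) ≤ normalizer ((Q : Subgroup G) : Set G) := by
  set C := centralizer ((P : Subgroup G) : Set G)
  obtain ⟨⟨y, hy⟩, hoy⟩ := exists_prime_orderOf_dvd_card' (G := C) q
    (by rw [show Nat.card C = p * q * r from hc]; exact dvd_mul_of_dvd_left (dvd_mul_left q p) r)
  rw [Subgroup.orderOf_mk] at hoy
  have hpg : IsPGroup q (zpowers y) := IsPGroup.of_card (n := 1) (by rw [Nat.card_zpowers, hoy, pow_one])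
  obtain ⟨Q, hyQ⟩ := hpg.exists_le_sylow
  have hQy : zpowers y = (Q : Subgroup G) := zpowers_eq_of_card (hQ Q) (hyQ (mem_zpowers y))
    (fun h1 => by rw [h1, orderOf_one] at hoy; exact hq.out.one_lt.ne hoy)
  have hQC : (Q : Subgroup G) ≤ C := hQy ▸ zpowers_le.2 hy
  refine ⟨Q, hQC, ?_⟩
  have hPC : (P : Subgroup G) ≤ C := le_centralizer_self hP
  have hl : p * q ∣ Nat.card (normalizer ((Q : Subgroup G) : Set G) ⊓ C : Subgroup G) := by
    refine ((Nat.coprime_primes hp.out hq.out).2 hpq).mul_dvd_of_dvd_of_dvd ?_ ?_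
    · have h := Subgroup.card_dvd_of_le (show (P : Subgroup G) ≤
          normalizer ((Q : Subgroup G) : Set G) ⊓ C from fun a ha =>
        ⟨SmallSimple.centralizer_le_normalizer (Q : Subgroup G)
          (fun b hb => (hQC hb a ha).symm), hPC ha⟩)
      rwa [hP] at h
    · have h := Subgroup.card_dvd_of_le (le_inf (Subgroup.le_normalizer (H := (Q : Subgroup G))) hQC)
      rwa [hQ] at h
  refine le_trans ?_ (normalizer_le_of_unique Q hQC hl hc hr)
  intro g hg
  rw [Subgroup.mem_normalizer_iff]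
  intro z
  constructor
  · intro hz a ha
    have ha' : g⁻¹ * a * g ∈ (P : Subgroup G) :=
      (Subgroup.mem_normalizer_iff.1 hg _).2 (by
        rw [show g * (g⁻¹ * a * g) * g⁻¹ = a by group]; exact ha)
    calc a * (g * z * g⁻¹) = g * ((g⁻¹ * a * g) * z) * g⁻¹ := by group
      _ = g * (z * (g⁻¹ * a * g)) * g⁻¹ := by rw [hz _ ha']
      _ = g * z * g⁻¹ * a := by group
  · intro hz a ha
    have ha' := (Subgroup.mem_normalizer_iff.1 hg a).1 ha
    calc a * z = g⁻¹ * ((g * a * g⁻¹) * (g * z * g⁻¹)) * g := by group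
      _ = g⁻¹ * ((g * z * g⁻¹) * (g * a * g⁻¹)) * g := by rw [hz _ ha']
      _ = z * a := by group

variable [IsSimpleGroup G]

/-- Local data at a prime of exponent one in a non-abelian simple group. -/
theorem exists_local_data (hG : ¬ IsMulCommutative G) {m : ℕ} (hn : Nat.card G = p * m)
    (hm : ¬ p ∣ m) (P : Sylow p G) :
    Nat.card (P : Subgroup G) = p ∧ ∃ n w c, Nat.card (Sylow p G) = n ∧ nCard P = p * w ∧
      cCard P = p * c ∧ n * w = m ∧ n % p = 1 ∧ 5 ≤ n ∧ c ∣ w ∧ c ≠ w ∧ w ∣ c * (p - 1) := by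
  have hn1 : Nat.card G = p ^ 1 * m := by rw [pow_one, hn]
  have hP : Nat.card (P : Subgroup G) = p := by rw [card_sylow_subgroup hn1 hm P, pow_one]
  have hdvd : p ∣ Nat.card G := hn ▸ dvd_mul_right p m
  refine ⟨hP, ?_⟩
  obtain ⟨c, hc⟩ := dvd_card_sylow_centralizer P hP
  have hCN : cCard P ∣ nCard P :=
    Subgroup.card_dvd_of_le (SmallSimple.centralizer_le_normalizer _)
  have hpN : p ∣ nCard P := (dvd_card_sylow_centralizer P hP).trans hCN
  obtain ⟨w, hw⟩ := hpN
  have hmul := card_sylow_mul_card_normalizer P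
  have hnw : Nat.card (Sylow p G) * w = m :=
    Nat.eq_of_mul_eq_mul_left hp.out.pos (by
      calc p * (Nat.card (Sylow p G) * w) = Nat.card (Sylow p G) * (p * w) := by ring
        _ = p * m := by rw [← hw, ← hn]; exact hmul)
  refine ⟨_, w, c, rfl, hw, hc, hnw, Eq.trans (card_sylow_modEq_one p G) (Nat.mod_eq_of_lt hp.out.one_lt),
    five_le_card_sylow hG hdvd, ?_, ?_, ?_⟩
  · rw [hw, hc] at hCN
    exact Nat.dvd_of_mul_dvd_mul_left hp.out.pos hCN
  · intro h
    apply not_hasNormalPComplement hG hdvd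
    refine Transfer.hasNormalPComplement_of_normalizer_le_centralizer P
      (Subgroup.eq_of_le_of_card_ge (SmallSimple.centralizer_le_normalizer _) (le_of_eq ?_)).ge
    show nCard P = cCard P
    rw [hw, hc, h]
  · have h := card_normalizer_dvd P hP
    rw [show Nat.card (normalizer ((P : Subgroup G) : Set G)) = p * w from hw,
      show Nat.card (centralizer ((P : Subgroup G) : Set G)) = p * c from hc, mul_assoc] at h
    exact Nat.dvd_of_mul_dvd_mul_left hp.out.pos h

end Cfsg.Agent.Order175560
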